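import Groth.Agent.FibBase.Basic
import Mathlib.CategoryTheory.Sites.InducedTopology
import Mathlib.CategoryTheory.Sites.CoverLifting
import Mathlib.CategoryTheory.Sites.CoverPreserving
import Mathlib.CategoryTheory.Sites.Over

/-!
# The topology inherited by a category fibred in groupoids
-/

set_option autoImplicit false
set_option backward.isDefEq.respectTransparency false
set_option backward.isDefEq.respectTransparency.types false

universe v₄' v₃ u₃ v₂ u₂ v u

open CategoryTheory CategoryTheory.Functor Groth.Agent.FibBase Opposite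

namespace Groth.Agent.StkLib

variable {C : Type u} [Category.{v} C] {X : Type u₂} [Category.{v₂} X] {p : X ⥤ C}

/-- An arrow is in the image of a sieve iff some lift of it is in the sieve. -/
lemma mem_pushforward_iff (hp : FibCat.IsFibGrpd p) {x : X} (S : Sieve x) {V : C} (g : V ⟶ p.obj x) :
    S.functorPushforward p g ↔ ∃ (w : X) (χ : w ⟶ x), p.IsHomLift g χ ∧ S χ := by
  constructor
  · rintro ⟨z, ψ, h, hψ, rfl⟩
    obtain ⟨w, χ, hχ⟩ := hp.exists_lift h
    exact ⟨w, χ ≫ ψ, inferInstance, S.downward_closed hψ χ⟩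
  · rintro ⟨w, χ, hχ, hS⟩
    obtain rfl : p.obj w = V := IsHomLift.domain_eq p g χ
    exact ⟨w, χ, 𝟙 _, hS, by rw [IsHomLift.fac p g χ]; simp⟩

lemma mem_of_lift (hp : FibCat.IsFibGrpd p) {x w : X} (S : Sieve x) {V : C} (g : V ⟶ p.obj x) (χ : w ⟶ x)
    [p.IsHomLift g χ] (h : S.functorPushforward p g) : S χ := by
  obtain ⟨w', χ', hχ', hS⟩ := (mem_pushforward_iff hp S g).mp h
  obtain ⟨e, -, he⟩ := exists_iso_of_lifts (hp := hp) g χ' χ
  exact he ▸ S.downward_closed hS e.hom

lemma pushforward_pullback (hp : FibCat.IsFibGrpd p) {x y : X} (φ : y ⟶ x) (S : Sieve x) :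
    (S.pullback φ).functorPushforward p = (S.functorPushforward p).pullback (p.map φ) := by
  ext V g
  constructor
  · intro h
    obtain ⟨w, χ, hχ, hS⟩ := (mem_pushforward_iff hp _ g).mp h
    exact (mem_pushforward_iff hp S _).mpr ⟨w, χ ≫ φ, inferInstance, hS⟩
  · intro h
    obtain ⟨w, χ, hχ⟩ := hp.exists_lift g
    refine (mem_pushforward_iff hp _ g).mpr ⟨w, χ, hχ, ?_⟩
    exact mem_of_lift hp S (g ≫ p.map φ) (χ ≫ φ) h

variable (p) in
/-- The sieves whose image covers. -/
def pushTop (hp : FibCat.IsFibGrpd p) (J : GrothendieckTopology C) : GrothendieckTopology X where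
  sieves x := {S | S.functorPushforward p ∈ J (p.obj x)}
  top_mem' x := by
    show Sieve.functorPushforward p ⊤ ∈ J (p.obj x)
    rw [Sieve.functorPushforward_top]; exact J.top_mem _
  pullback_stable' x y S φ hS := by
    show (S.pullback φ).functorPushforward p ∈ J (p.obj y)
    rw [pushforward_pullback hp]; exact J.pullback_stable _ hS
  transitive' x S hS R hR := by
    refine J.transitive hS _ fun V g hg => ?_
    obtain ⟨z, ψ, h, hψ, rfl⟩ := hg
    rw [Sieve.pullback_comp, ← pushforward_pullback hp]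
    exact J.pullback_stable _ (hR hψ)

theorem mem_restrictedTopology_iff (hp : FibCat.IsFibGrpd p) (J : GrothendieckTopology C) {x : X} (S : Sieve x) :
    S ∈ p.restrictedTopology J x ↔ S.functorPushforward p ∈ J (p.obj x) := by
  refine ⟨fun h => ?_, mem_restrictedTopology_of_functorPushforward_mem⟩
  have le : p.restrictedTopology J ≤ pushTop p hp J := by
    rw [Functor.restrictedTopology, Precoverage.toGrothendieck_le_iff_le_toPrecoverage]
    intro y R hR
    rw [Precoverage.mem_comap_iff, GrothendieckTopology.mem_toPrecoverage_iff,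
      Sieve.generate_map_eq_functorPushforward] at hR
    exact (GrothendieckTopology.mem_toPrecoverage_iff _ _).mpr hR
  exact le x h

lemma overPost_isEquivalence (hp : FibCat.IsFibGrpd p) (x : X) :
    (Over.post p : Over x ⥤ Over (p.obj x)).IsEquivalence where
  faithful := ⟨fun {a b} φ ψ h => by
    have h' : p.map φ.left = p.map ψ.left := congrArg CommaMorphism.left h
    have := hp.isStronglyCartesian b.hom
    have : p.IsHomLift (p.map φ.left) ψ.left := by rw [h']; infer_instance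
    exact Over.OverMorphism.ext (IsStronglyCartesian.ext p (p.map b.hom) b.hom (p.map φ.left)
      ((Over.w φ).trans (Over.w ψ).symm))⟩
  full := ⟨fun {a b} t => by
    have := hp.isStronglyCartesian b.hom
    let g : p.obj a.left ⟶ p.obj b.left := t.left
    have hg : p.map a.hom = g ≫ p.map b.hom := (Over.w t).symm
    let χ := IsStronglyCartesian.map p (p.map b.hom) b.hom hg a.hom
    refine ⟨Over.homMk χ (IsStronglyCartesian.fac p _ _ _ _), Over.OverMorphism.ext ?_⟩
    show p.map χ = g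
    exact (IsHomLift.eq_of_isHomLift p g χ).symm⟩
  essSurj := ⟨fun a => by
    suffices h : ∀ {V : C} (f : V ⟶ p.obj x), ∃ b : Over x, Nonempty ((Over.post p).obj b ≅ Over.mk f) by
      obtain ⟨V, f, rfl⟩ := a.mk_surjective
      exact h f
    intro V f
    obtain ⟨y, φ, hφ⟩ := hp.exists_lift f
    refine ⟨Over.mk φ, ⟨Over.isoMk (eqToIso (IsHomLift.domain_eq p f φ)) ?_⟩⟩
    show eqToHom (IsHomLift.domain_eq p f φ) ≫ f = p.map φ
    rw [IsHomLift.fac' p f φ]
    simp⟩

theorem overPost_covering_iff (hp : FibCat.IsFibGrpd p) (J : GrothendieckTopology C) (x : X) (a : Over x) (S : Sieve a) :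
    S ∈ (p.restrictedTopology J).over x a ↔
      S.functorPushforward (Over.post p) ∈ (J.over (p.obj x)) ((Over.post p).obj a) := by
  rw [GrothendieckTopology.mem_over_iff, GrothendieckTopology.mem_over_iff, Sieve.overEquiv_functorPushforward_post]
  exact mem_restrictedTopology_iff hp J _

variable {Y : Type u₃} [Category.{v₃} Y] {q : Y ⥤ C} {F : X ⥤ Y}

lemma coverPreserving (hq : FibCat.IsFibGrpd q) (hp : FibCat.IsFibGrpd p) (J : GrothendieckTopology C)
    (hw : F ⋙ q = p) : CoverPreserving (p.restrictedTopology J) (q.restrictedTopology J) F := by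
  subst hw
  refine ⟨fun {x} S hS => (mem_restrictedTopology_iff hq J _).mpr ?_⟩
  rw [← Sieve.functorPushforward_comp]
  exact (mem_restrictedTopology_iff hp J S).mp hS

lemma isCocontinuous (hq : FibCat.IsFibGrpd q) (hp : FibCat.IsFibGrpd p) (J : GrothendieckTopology C)
    (hw : F ⋙ q = p) : F.IsCocontinuous (p.restrictedTopology J) (q.restrictedTopology J) := by
  subst hw
  refine ⟨fun {x} S hS => (mem_restrictedTopology_iff hp J _).mpr
    (J.superset_covering ?_ ((mem_restrictedTopology_iff hq J S).mp hS))⟩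
  intro V g hg
  obtain ⟨x', χ, hχ⟩ := hp.exists_lift g
  refine (mem_pushforward_iff hp _ g).mpr ⟨x', χ, hχ, ?_⟩
  have : q.IsHomLift g (F.map χ) := IsHomLift.of_fac' q g (F.map χ)
    (IsHomLift.domain_eq (F ⋙ q) g χ) rfl (IsHomLift.fac' (F ⋙ q) g χ)
  exact mem_of_lift hq S g (F.map χ) hg

lemma compatiblePreserving (hq : FibCat.IsFibGrpd q) (hp : FibCat.IsFibGrpd p) (hw : F ⋙ q = p)
    (K : GrothendieckTopology Y) : CompatiblePreserving.{v₄'} K F := by
  subst hw
  constructor
  intro ℱ Z T x hx Y₁ Y₂ W f₁ f₂ g₁ g₂ h₁ h₂ e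
  obtain ⟨W', a₁, ha₁⟩ := hp.exists_lift (show q.obj W ⟶ (F ⋙ q).obj Y₁ from q.map f₁)
  have hd : q.obj (F.obj W') = q.obj W := IsHomLift.domain_eq (F ⋙ q) (show q.obj W ⟶ (F ⋙ q).obj Y₁ from q.map f₁) a₁
  have : q.IsHomLift (q.map f₁) (F.map a₁) := IsHomLift.of_fac' q _ _ hd rfl
    (IsHomLift.fac' (F ⋙ q) (show q.obj W ⟶ (F ⋙ q).obj Y₁ from q.map f₁) a₁)
  obtain ⟨i, hi, hif⟩ := exists_iso_of_lifts (hp := hq) (q.map f₁) (F.map a₁) f₁
  have hsc₂ := hp.isStronglyCartesian g₂
  have hqe : q.map f₁ ≫ (F ⋙ q).map g₁ = q.map f₂ ≫ (F ⋙ q).map g₂ :=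
    (q.map_comp _ _).symm.trans ((congrArg q.map e).trans (q.map_comp _ _))
  have hf : (F ⋙ q).map (a₁ ≫ g₁) = (eqToHom hd ≫ q.map f₂) ≫ (F ⋙ q).map g₂ := by
    rw [Functor.map_comp, IsHomLift.fac' (F ⋙ q) (show q.obj W ⟶ (F ⋙ q).obj Y₁ from q.map f₁) a₁]
    simp only [eqToHom_refl, Category.comp_id, Category.assoc]
    exact congrArg (eqToHom hd ≫ ·) hqe
  let a₂ := IsStronglyCartesian.map (F ⋙ q) ((F ⋙ q).map g₂) g₂ hf (a₁ ≫ g₁)
  have ha₂ : a₂ ≫ g₂ = a₁ ≫ g₁ := IsStronglyCartesian.fac (F ⋙ q) _ _ _ _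
  have hm₂ : q.map (F.map a₂) = eqToHom hd ≫ q.map f₂ :=
    (IsHomLift.eq_of_isHomLift (F ⋙ q) (eqToHom hd ≫ q.map f₂) a₂).symm
  have hsc := hq.isStronglyCartesian (F.map g₂)
  have : q.IsHomLift (q.map f₂) (i.hom ≫ F.map a₂) := IsHomLift.of_fac' q _ _ rfl rfl (by
    rw [Functor.map_comp, hm₂, map_eq_of_isHomLift_id hi]
    simp)
  have h2 : i.hom ≫ F.map a₂ = f₂ := by
    refine IsStronglyCartesian.ext q (q.map (F.map g₂)) (F.map g₂) (q.map f₂) ?_
    rw [Category.assoc, ← F.map_comp, ha₂, F.map_comp, ← Category.assoc, hif, e]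
  have key := hx a₁ a₂ h₁ h₂ ha₂.symm
  rw [← hif, ← h2, op_comp, op_comp, Functor.map_comp_apply, Functor.map_comp_apply]
  exact congrArg _ key

theorem isContinuous (hq : FibCat.IsFibGrpd q) (hp : FibCat.IsFibGrpd p) (J : GrothendieckTopology C)
    (hw : F ⋙ q = p) : F.IsContinuous (p.restrictedTopology J) (q.restrictedTopology J) :=
  Functor.isContinuous_of_coverPreserving (compatiblePreserving hq hp hw _) (coverPreserving hq hp J hw)

end Groth.Agent.StkLib
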