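import Groth.Agent.StkLib.Sieves
import Groth.Agent.StkLib.Topology
import Groth.Agent.FibBase.FpMaps
import Groth.Agent.FibBase.Comp

/-!
# Stacks over a category fibred in groupoids
-/

set_option autoImplicit false
set_option backward.isDefEq.respectTransparency false
set_option backward.isDefEq.respectTransparency.types false

universe v u

open CategoryTheory CategoryTheory.Functor CategoryTheory.Limits Groth.Agent.FibBase

namespace Groth.Agent.StkLib

variable {C : Type u} [Category.{v} C] {𝒜 ℬ 𝒞 𝒮 𝒯 : BasedCategory.{v, max u v} C}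

lemma basedExt {G H : 𝒜 ⥤ᵇ ℬ} (h : G.toFunctor = H.toFunctor) : G = H := by
  cases G; cases H; cases h; rfl

section Fibre

variable (F : 𝒮 ⥤ᵇ 𝒯)

/-- The constant functor at a functor over the base. -/
abbrev point (t : 𝒜 ⥤ᵇ 𝒯) : Discrete PUnit.{(max u v) + 1} ⥤ (𝒜 ⥤ᵇ 𝒯) := Functor.fromPUnit t

/-- The map between fibres of postcomposition given by restriction. -/
def fibCospan (ι : 𝒜 ⥤ᵇ ℬ) (t : ℬ ⥤ᵇ 𝒯) :
    CatCospanTransform (point t) (post (𝒜 := ℬ) F) (point (BasedFunctor.comp ι t)) (post (𝒜 := 𝒜) F) where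
  left := 𝟭 _
  base := Stk.restr ι 𝒯
  right := Stk.restr ι 𝒮
  squareLeft := ⟨NatIso.ofComponents (fun _ => Iso.refl _) (fun _ => hext fun _ => rfl)⟩
  squareRight := ⟨(restrPost ι F).symm⟩

/-- Restriction between fibres of postcomposition. -/
noncomputable abbrev pbFib (ι : 𝒜 ⥤ᵇ ℬ) (t : ℬ ⥤ᵇ 𝒯) :=
  FibCat.categoricalPullbackMap (fibCospan F ι t)

lemma pbFib_iso_app (ι : 𝒜 ⥤ᵇ ℬ) (t : ℬ ⥤ᵇ 𝒯) (o : CategoricalPullback (point t) (post (𝒜 := ℬ) F)) (a : 𝒜.obj) :
    ((pbFib F ι t).obj o).iso.hom.toNatTrans.app a = o.iso.hom.toNatTrans.app (ι.obj a) := by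
  refine (congrArg (fun s => s.toNatTrans.app a) (pbMap_iso (fibCospan F ι t) o)).trans ?_
  show 𝟙 _ ≫ o.iso.hom.toNatTrans.app (ι.obj a) ≫ 𝟙 _ = _
  exact (Category.id_comp _).trans (Category.comp_id _)

lemma pbFib_isEquivalence_of_ff (ι : 𝒜 ⥤ᵇ ℬ) (t : ℬ ⥤ᵇ 𝒯) (h : (Stk.restr ι 𝒮).IsEquivalence)
    (h' : (Stk.restr ι 𝒯).Full ∧ (Stk.restr ι 𝒯).Faithful) : (pbFib F ι t).IsEquivalence := by
  haveI : (fibCospan F ι t).left.IsEquivalence := inferInstanceAs (𝟭 _).IsEquivalence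
  haveI : (fibCospan F ι t).right.IsEquivalence := h
  haveI : (fibCospan F ι t).base.Full := h'.1
  haveI : (fibCospan F ι t).base.Faithful := h'.2
  exact pbMap_isEquivalence (fibCospan F ι t)

/-- Compatibility with composition. -/
noncomputable def pbFibComp (κ : 𝒜 ⥤ᵇ ℬ) (ι : ℬ ⥤ᵇ 𝒞) (t : 𝒞 ⥤ᵇ 𝒯) :
    pbFib F ι t ⋙ pbFib F κ (BasedFunctor.comp ι t) ≅ pbFib F (BasedFunctor.comp κ ι) t :=
  NatIso.ofComponents (fun o => CategoricalPullback.mkIso (Iso.refl _) (Iso.refl _) (hext fun a => by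
      show 𝟙 _ ≫ ((pbFib F (BasedFunctor.comp κ ι) t).obj o).iso.hom.toNatTrans.app a =
        ((pbFib F κ (BasedFunctor.comp ι t)).obj ((pbFib F ι t).obj o)).iso.hom.toNatTrans.app a ≫ F.map (𝟙 _)
      rw [pbFib_iso_app, pbFib_iso_app, pbFib_iso_app, F.toFunctor.map_id]
      exact (Category.id_comp _).trans (Category.comp_id _).symm))
    (fun α => CategoricalPullback.hom_ext ((Category.comp_id _).trans (Category.id_comp _).symm)
      (hext fun a => (Category.comp_id _).trans (Category.id_comp _).symm))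

/-- An object of the fibre. -/
abbrev fibObj {t : 𝒜 ⥤ᵇ 𝒯} (K : 𝒜 ⥤ᵇ 𝒮) (e : t ≅ BasedFunctor.comp K F) :
    CategoricalPullback (point t) (post (𝒜 := 𝒜) F) :=
  ⟨⟨PUnit.unit⟩, K, e⟩

/-- If restriction is an equivalence on the base and on all fibres, it is an equivalence. -/
theorem isEquivalence_of_fibres (h𝒯 : FibCat.IsFibGrpd 𝒯.p) (ι : 𝒜 ⥤ᵇ ℬ)
    (h0 : (Stk.restr ι 𝒯).IsEquivalence) (hfib : ∀ t : ℬ ⥤ᵇ 𝒯, (pbFib F ι t).IsEquivalence) :
    (Stk.restr ι 𝒮).IsEquivalence where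
  faithful := ⟨fun {K K'} α β h => by
    haveI := hfib (BasedFunctor.comp K F)
    haveI := hom_isIso h𝒯 ((post F).map α)
    have hF : (post F).map α = (post F).map β := (Stk.restr ι 𝒯).map_injective (hext fun a =>
      congrArg F.map (congrArg (fun s => s.toNatTrans.app a) h))
    let o' := fibObj F K' (asIso ((post F).map α))
    let m : fibObj F K (Iso.refl (BasedFunctor.comp K F)) ⟶ o' :=
      ⟨𝟙 _, α, hext fun a => (Category.id_comp _).trans (Category.id_comp _).symm⟩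
    let m' : fibObj F K (Iso.refl (BasedFunctor.comp K F)) ⟶ o' :=
      ⟨𝟙 _, β, by rw [← hF]; exact hext fun a => (Category.id_comp _).trans (Category.id_comp _).symm⟩
    have e : m = m' := (pbFib F ι (BasedFunctor.comp K F)).map_injective (CategoricalPullback.hom_ext rfl h)
    exact congrArg (fun s : fibObj F K (Iso.refl (BasedFunctor.comp K F)) ⟶ o' => s.snd) e⟩
  full := ⟨fun {K K'} γ => by
    haveI := hfib (BasedFunctor.comp K F)
    obtain ⟨δ, hδ⟩ := (Stk.restr ι 𝒯).map_surjective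
      (X := BasedFunctor.comp K F) (Y := BasedFunctor.comp K' F) ((post F).map γ)
    haveI := hom_isIso h𝒯 δ
    let o := fibObj F K (Iso.refl (BasedFunctor.comp K F))
    let o' := fibObj F K' (asIso δ)
    let m : (pbFib F ι _).obj o ⟶ (pbFib F ι _).obj o' := ⟨𝟙 _, γ, hext fun a => by
      show 𝟙 _ ≫ ((pbFib F ι _).obj o').iso.hom.toNatTrans.app a =
        ((pbFib F ι _).obj o).iso.hom.toNatTrans.app a ≫ F.map (γ.toNatTrans.app a)
      rw [pbFib_iso_app, pbFib_iso_app]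
      refine (Category.id_comp _).trans (Eq.trans ?_ (Category.id_comp _).symm)
      exact congrArg (fun s => s.toNatTrans.app a) hδ⟩
    obtain ⟨μ, hμ⟩ := (pbFib F ι (BasedFunctor.comp K F)).map_surjective m
    exact ⟨μ.snd, congrArg (fun s : (pbFib F ι _).obj o ⟶ (pbFib F ι _).obj o' => s.snd) hμ⟩⟩
  essSurj := ⟨fun A => by
    let t := (Stk.restr ι 𝒯).objPreimage (BasedFunctor.comp A F)
    let θ : BasedFunctor.comp ι t ≅ BasedFunctor.comp A F :=
      (Stk.restr ι 𝒯).objObjPreimageIso (BasedFunctor.comp A F)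
    haveI := hfib t
    let o := (pbFib F ι t).objPreimage (fibObj F A θ)
    exact ⟨o.snd, ⟨(CategoricalPullback.π₂ _ _).mapIso ((pbFib F ι t).objObjPreimageIso (fibObj F A θ))⟩⟩⟩

end Fibre

section Over

variable {𝔛 : BasedCategory.{v, max u v} C}

/-- A category over `𝔛` as a category over `C`. -/
abbrev below (𝔄 : BasedCategory.{v, max u v} 𝔛.obj) : BasedCategory.{v, max u v} C :=
  BasedCategory.ofFunctor (𝔄.p ⋙ 𝔛.p)

/-- The structure functor as a functor over `C`. -/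
abbrev belowStr (𝔄 : BasedCategory.{v, max u v} 𝔛.obj) : below 𝔄 ⥤ᵇ 𝔛 := ⟨𝔄.p, rfl⟩

/-- A functor over `𝔛` as a functor over `C`. -/
abbrev belowMap {𝔄 𝔅 : BasedCategory.{v, max u v} 𝔛.obj} (j : 𝔄 ⥤ᵇ 𝔅) : below 𝔄 ⥤ᵇ below 𝔅 :=
  ⟨j.toFunctor, congrArg (· ⋙ 𝔛.p) j.w⟩

variable (y : 𝔛 ⥤ᵇ 𝒯) (F : 𝒮 ⥤ᵇ 𝒯)

/-- The base change of `F` along `y` as a category over `𝔛`. -/
abbrev bcCat : BasedCategory.{v, max u v} 𝔛.obj := BasedCategory.ofFunctor (FibCat.fpFst y F).toFunctor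

variable (𝔄 : BasedCategory.{v, max u v} 𝔛.obj)

/-- The functor into the fibre product underlying a functor into the base change. -/
abbrev toFp (H : 𝔄 ⥤ᵇ bcCat y F) : below 𝔄 ⥤ᵇ FibCat.fp y F :=
  ⟨H.toFunctor, congrArg (· ⋙ 𝔛.p) H.w⟩

/-- The first component of a functor into the base change is the structure functor. -/
def fstIso (H : 𝔄 ⥤ᵇ bcCat y F) : belowStr 𝔄 ≅ BasedFunctor.comp (toFp y F 𝔄 H) (FibCat.fpFst y F) :=
  BasedNatIso.mkNatIso (eqToIso H.w.symm) (fun a => by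
    refine isHomLift_id_of_map_eq rfl (congrArg 𝔛.p.obj (H.w_obj a)) ?_
    rw [eqToIso.hom, eqToHom_app, eqToHom_map])

lemma fstIso_app (H : 𝔄 ⥤ᵇ bcCat y F) (a : 𝔄.obj) :
    (fstIso y F 𝔄 H).hom.toNatTrans.app a = eqToHom (H.w_obj a).symm := by
  show (eqToHom H.w.symm).app a = _
  rw [eqToHom_app]

/-- The isomorphism attached to a functor into the base change. -/
def bcIso (H : 𝔄 ⥤ᵇ bcCat y F) : BasedFunctor.comp (belowStr 𝔄) y ≅
    BasedFunctor.comp (BasedFunctor.comp (toFp y F 𝔄 H) (FibCat.fpSnd y F)) F :=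
  whiskerRightIso (fstIso y F 𝔄 H) y ≪≫ whiskerLeftIso (toFp y F 𝔄 H) (FibCat.fpIso y F)

lemma bcIso_app (H : 𝔄 ⥤ᵇ bcCat y F) (a : 𝔄.obj) :
    (bcIso y F 𝔄 H).hom.toNatTrans.app a =
      eqToHom (congrArg y.obj (H.w_obj a).symm) ≫ (H.obj a).obj.iso.hom := by
  refine (congrArg (· ≫ (H.obj a).obj.iso.hom) ?_ : _)
  show y.map ((fstIso y F 𝔄 H).hom.toNatTrans.app a) = _
  rw [fstIso_app, eqToHom_map]

/-- Functors into the base change are objects of a fibre of postcomposition. -/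
def bcHom : (𝔄 ⥤ᵇ bcCat y F) ⥤
    CategoricalPullback (point (BasedFunctor.comp (belowStr 𝔄) y)) (post (𝒜 := below 𝔄) F) where
  obj H := fibObj F (BasedFunctor.comp (toFp y F 𝔄 H) (FibCat.fpSnd y F)) (bcIso y F 𝔄 H)
  map {H H'} α :=
    { fst := 𝟙 _
      snd := { toNatTrans :=
                { app := fun a => (α.toNatTrans.app a).hom.snd
                  naturality := fun a b g =>
                    congrArg (fun s : H.obj a ⟶ H'.obj b => s.hom.snd) (α.toNatTrans.naturality g) }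
               isHomLift' := fun a => by
                have h := map_eq_of_isHomLift_id (p := (bcCat y F).p) (α.isHomLift' a)
                have h2 : (FibCat.fp y F).p.map (α.toNatTrans.app a) =
                    eqToHom (congrArg 𝔛.p.obj ((H.w_obj a).trans (H'.w_obj a).symm)) :=
                  (congrArg 𝔛.p.map h).trans (eqToHom_map _ _)
                have := FibCat.fp_isHomLift_snd y F (α.toNatTrans.app a)
                refine isHomLift_id_of_map_eq ((snd_proj _).trans (congrArg 𝔛.p.obj (H.w_obj a)))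
                  ((snd_proj _).trans (congrArg 𝔛.p.obj (H'.w_obj a))) ?_
                rw [IsHomLift.fac' 𝒮.p ((FibCat.fp y F).p.map (α.toNatTrans.app a)) (α.toNatTrans.app a).hom.snd]
                exact (congrArg (fun s => _ ≫ s ≫ _) h2).trans (by simp) }
      w := hext fun a => by
        show 𝟙 _ ≫ (bcIso y F 𝔄 H').hom.toNatTrans.app a =
          (bcIso y F 𝔄 H).hom.toNatTrans.app a ≫ F.map (α.toNatTrans.app a).hom.snd
        rw [bcIso_app, bcIso_app]
        have h := map_eq_of_isHomLift_id (p := (bcCat y F).p) (α.isHomLift' a)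
        have h' : y.map (α.toNatTrans.app a).hom.fst =
            eqToHom (congrArg y.obj ((H.w_obj a).trans (H'.w_obj a).symm)) :=
          (congrArg y.map h).trans (eqToHom_map _ _)
        refine (Category.id_comp _).trans ?_
        rw [Category.assoc, ← (α.toNatTrans.app a).hom.w, h', eqToHom_trans_assoc] }
  map_id H := CategoricalPullback.hom_ext rfl (hext fun a => rfl)
  map_comp α β := CategoricalPullback.hom_ext (Category.comp_id _).symm (hext fun a => rfl)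

lemma bcHom_isEquivalence : (bcHom y F 𝔄).IsEquivalence where
  faithful := ⟨fun {H H'} α β h => hext fun a => by
    refine ObjectProperty.hom_ext _ (CategoricalPullback.hom_ext ?_ (congrArg (fun t => t.snd.toNatTrans.app a) h))
    exact (map_eq_of_isHomLift_id (p := (bcCat y F).p) (α.isHomLift' a)).trans
      (map_eq_of_isHomLift_id (p := (bcCat y F).p) (β.isHomLift' a)).symm⟩
  full := ⟨fun {H H'} t => by
    let hh : ∀ a, (H.obj a).obj.fst = (H'.obj a).obj.fst := fun a => (H.w_obj a).trans (H'.w_obj a).symm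
    let η : ∀ a, H.obj a ⟶ H'.obj a := fun a => ObjectProperty.homMk
      { fst := eqToHom (hh a)
        snd := t.snd.toNatTrans.app a
        w := by
          have hw : 𝟙 _ ≫ (bcIso y F 𝔄 H').hom.toNatTrans.app a =
              (bcIso y F 𝔄 H).hom.toNatTrans.app a ≫ F.map (t.snd.toNatTrans.app a) :=
            (congrArg (fun s => s ≫ _) ((point (BasedFunctor.comp (belowStr 𝔄) y)).map_id _ ▸ rfl : _ = _)).trans
              (congrArg (fun s => s.toNatTrans.app a) t.w)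
          rw [bcIso_app, bcIso_app, Category.id_comp, Category.assoc] at hw
          rw [eqToHom_map, ← cancel_epi (eqToHom (congrArg y.obj (H.w_obj a).symm)), eqToHom_trans_assoc]
          exact hw }
    refine ⟨{ toNatTrans := { app := η, naturality := fun a b g => ?_ }, isHomLift' := fun a => ?_ },
      CategoricalPullback.hom_ext (Subsingleton.elim _ _) (hext fun a => rfl)⟩
    · refine ObjectProperty.hom_ext _ (CategoricalPullback.hom_ext ?_ (t.snd.toNatTrans.naturality g))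
      show (bcCat y F).p.map (H.map g) ≫ eqToHom (hh b) = eqToHom (hh a) ≫ (bcCat y F).p.map (H'.map g)
      rw [w_map, w_map]
      simp
    · exact isHomLift_id_of_map_eq (p := (bcCat y F).p) (H.w_obj a) (H'.w_obj a) rfl⟩
  essSurj := ⟨fun o => by
    let L := FibCat.fpLift (belowStr 𝔄) o.snd o.iso
    let H : 𝔄 ⥤ᵇ bcCat y F := ⟨L.toFunctor, rfl⟩
    refine ⟨H, ⟨CategoricalPullback.mkIso (eqToIso rfl) (Iso.refl _) (hext fun a => ?_)⟩⟩
    show 𝟙 _ ≫ o.iso.hom.toNatTrans.app a = (bcIso y F 𝔄 H).hom.toNatTrans.app a ≫ F.map (𝟙 _)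
    rw [bcIso_app, F.toFunctor.map_id]
    simp
    exact (Category.comp_id _).symm⟩

variable {𝔄} {𝔅 : BasedCategory.{v, max u v} 𝔛.obj} (j : 𝔄 ⥤ᵇ 𝔅)

/-- The structure functors are compatible. -/
lemma belowMap_str : BasedFunctor.comp (belowMap j) (belowStr 𝔅) = belowStr 𝔄 :=
  basedExt j.w

variable {x : 𝔛.obj} (R : Sieve x)

/-- Restriction of functors into a base change along a sieve. -/
noncomputable def bcRestr : Stk.resSieve R (bcCat y F) ⋙ bcHom y F (Stk.sieveCat R) ≅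
    bcHom y F (FibCat.overCat x) ⋙ pbFib F (belowMap (Stk.sieveIncl R)) (BasedFunctor.comp (belowStr (FibCat.overCat x)) y) :=
  NatIso.ofComponents (fun H => CategoricalPullback.mkIso (Iso.refl _) (Iso.refl _) (hext fun a => by
      show 𝟙 _ ≫ ((pbFib F (belowMap (Stk.sieveIncl R)) _).obj ((bcHom y F (FibCat.overCat x)).obj H)).iso.hom.toNatTrans.app a =
        (bcIso y F (Stk.sieveCat R) ((Stk.resSieve R (bcCat y F)).obj H)).hom.toNatTrans.app a ≫ F.map (𝟙 _)
      rw [pbFib_iso_app, bcIso_app, F.toFunctor.map_id]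
      refine (Category.id_comp _).trans (Eq.trans ?_ (Category.comp_id _).symm)
      exact bcIso_app y F (FibCat.overCat x) H a.obj))
    (fun α => CategoricalPullback.hom_ext ((Category.comp_id _).trans (Category.id_comp _).symm)
      (hext fun a => (Category.comp_id _).trans (Category.id_comp _).symm))

theorem isStackFor_bc_iff : Stk.IsStackFor R (bcCat y F) ↔
    (pbFib F (belowMap (Stk.sieveIncl R)) (BasedFunctor.comp (belowStr (FibCat.overCat x)) y)).IsEquivalence := by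
  have := bcHom_isEquivalence y F (FibCat.overCat x)
  have := bcHom_isEquivalence y F (Stk.sieveCat R)
  exact isEquivalence_square (bcRestr y F R)

end Over

section Slices

variable {𝔛 : BasedCategory.{v, max u v} C} {x : 𝔛.obj} {U : C} (hx : 𝔛.p.obj x = U)

/-- The slice at an object, mapped to the slice of the base. -/
abbrev sliceMap : below (FibCat.overCat x) ⥤ᵇ FibCat.overCat U :=
  ⟨Over.post 𝔛.p ⋙ Over.map (eqToHom hx), rfl⟩

lemma sliceMap_isEquivOver (h : FibCat.IsFibGrpd 𝔛.p) : FibCat.IsEquivOver (sliceMap hx) := by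
  subst hx
  have := overPost_isEquivalence h x
  haveI : (sliceMap (rfl : 𝔛.p.obj x = _)).toFunctor.Full :=
    inferInstanceAs (Over.post 𝔛.p ⋙ Over.map (eqToHom _)).Full
  haveI : (sliceMap (rfl : 𝔛.p.obj x = _)).toFunctor.Faithful :=
    inferInstanceAs (Over.post 𝔛.p ⋙ Over.map (eqToHom _)).Faithful
  refine isEquivOver_of_exists_iso _ inferInstance inferInstance fun η => ?_
  suffices hh : ∀ {V : C} (f : V ⟶ 𝔛.p.obj x), ∃ (ξ : Over x) (e : (sliceMap rfl).obj ξ ≅ Over.mk f),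
      (FibCat.overCat (𝔛.p.obj x)).p.IsHomLift (𝟙 V) e.hom by
    obtain ⟨V, f, rfl⟩ := η.mk_surjective
    exact hh f
  intro V f
  obtain ⟨z, φ, hφ⟩ := h.exists_lift f
  have hd := IsHomLift.domain_eq 𝔛.p f φ
  refine ⟨Over.mk φ, Over.isoMk (eqToIso hd) ?_, isHomLift_id_of_map_eq (p := (FibCat.overCat (𝔛.p.obj x)).p) (a := (sliceMap rfl).obj (Over.mk φ)) (b := Over.mk f) hd rfl rfl⟩
  show eqToHom hd ≫ f = 𝔛.p.map φ ≫ eqToHom rfl
  rw [IsHomLift.fac' 𝔛.p f φ]
  simp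

variable {Rb : Sieve U} {R : Sieve x} (hR : ∀ {z : 𝔛.obj} (ψ : z ⟶ x), R ψ ↔ Rb (𝔛.p.map ψ ≫ eqToHom hx))

/-- The sieve at an object, mapped to the sieve of the base. -/
abbrev sieveMap : below (Stk.sieveCat R) ⥤ᵇ Stk.sieveCat Rb :=
  ⟨ObjectProperty.lift _ ((Stk.sieveIncl R).toFunctor ⋙ (sliceMap hx).toFunctor) (fun a => (hR a.obj.hom).mp a.property), rfl⟩

lemma sieveMap_isEquivOver (h : FibCat.IsFibGrpd 𝔛.p) : FibCat.IsEquivOver (sieveMap hx hR) := by
  have he := sliceMap_isEquivOver hx h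
  haveI := full_of_isEquivOver he
  haveI := faithful_of_isEquivOver he
  haveI : (Stk.sieveIncl R).toFunctor.Full := inferInstanceAs (ObjectProperty.ι _).Full
  haveI : (Stk.sieveIncl R).toFunctor.Faithful := inferInstanceAs (ObjectProperty.ι _).Faithful
  haveI : (sieveMap hx hR).toFunctor.Full := inferInstanceAs (ObjectProperty.lift _ _ _).Full
  haveI : (sieveMap hx hR).toFunctor.Faithful := inferInstanceAs (ObjectProperty.lift _ _ _).Faithful
  refine isEquivOver_of_exists_iso _ inferInstance inferInstance fun η => ?_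
  obtain ⟨ξ, e, hel⟩ := exists_iso_over_of_isEquivOver he η.obj rfl
  have hξ : R ξ.hom := (hR ξ.hom).mpr (by
    rw [show 𝔛.p.map ξ.hom ≫ eqToHom hx = e.hom.left ≫ η.obj.hom from (Over.w e.hom).symm]
    exact Rb.downward_closed η.property _)
  haveI : (Stk.sieveIncl Rb).toFunctor.Full := inferInstanceAs (ObjectProperty.ι _).Full
  haveI : (Stk.sieveIncl Rb).toFunctor.Faithful := inferInstanceAs (ObjectProperty.ι _).Faithful
  refine ⟨⟨ξ, hξ⟩, (Stk.sieveIncl Rb).toFunctor.preimageIso (X := (sieveMap hx hR).obj ⟨ξ, hξ⟩) (Y := η) e, ?_⟩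
  rw [← (Stk.sieveIncl Rb).isHomLift_iff, Functor.preimageIso_hom, Functor.map_preimage]
  exact hel

/-- Restriction at an object and restriction in the base are equivalent. -/
def sliceSquare (𝒵 : BasedCategory.{v, max u v} C) :
    Stk.restr (sliceMap hx) 𝒵 ⋙ Stk.restr (belowMap (Stk.sieveIncl R)) 𝒵 ≅
      Stk.resSieve Rb 𝒵 ⋙ Stk.restr (sieveMap hx hR) 𝒵 :=
  NatIso.ofComponents (fun _ => Iso.refl _)
    (fun _ => hext fun _ => (Category.comp_id _).trans (Category.id_comp _).symm)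

include hR in
lemma isEquivalence_belowIncl (h : FibCat.IsFibGrpd 𝔛.p) {𝒵 : BasedCategory.{v, max u v} C}
    (hz : Stk.IsStackFor Rb 𝒵) : (Stk.restr (belowMap (Stk.sieveIncl R)) 𝒵).IsEquivalence := by
  have := restr_isEquivalence (𝒳 := 𝒵) (sliceMap_isEquivOver hx h)
  have := restr_isEquivalence (𝒳 := 𝒵) (sieveMap_isEquivOver hx hR h)
  exact (isEquivalence_square (sliceSquare hx hR 𝒵).symm).mp hz

include hR in
lemma fullyFaithful_belowIncl (h : FibCat.IsFibGrpd 𝔛.p) {𝒵 : BasedCategory.{v, max u v} C}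
    (hz : Stk.IsPrestackFor Rb 𝒵) : (Stk.restr (belowMap (Stk.sieveIncl R)) 𝒵).Full ∧
      (Stk.restr (belowMap (Stk.sieveIncl R)) 𝒵).Faithful := by
  have := restr_isEquivalence (𝒳 := 𝒵) (sliceMap_isEquivOver hx h)
  have := restr_isEquivalence (𝒳 := 𝒵) (sieveMap_isEquivOver hx hR h)
  exact fullyFaithful_of_square (sliceSquare hx hR 𝒵).symm hz

variable (y : 𝔛 ⥤ᵇ 𝒯) (F : 𝒮 ⥤ᵇ 𝒯)

/-- Base change of a stack along a functor out of a category fibred in groupoids, sieve by sieve. -/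
theorem isStackFor_bc (h : FibCat.IsFibGrpd 𝔛.p) (hS : Stk.IsStackFor Rb 𝒮) (hT : Stk.IsPrestackFor Rb 𝒯)
    (hR' : ∀ {z : 𝔛.obj} (ψ : z ⟶ x), R ψ ↔ Rb (𝔛.p.map ψ ≫ eqToHom hx)) :
    Stk.IsStackFor R (bcCat y F) :=
  (isStackFor_bc_iff y F R).mpr (pbFib_isEquivalence_of_ff F _ _ (isEquivalence_belowIncl hx hR' h hS)
    (fullyFaithful_belowIncl hx hR' h hT))

lemma isEquivOver_of_retract {𝒟 ℰ : BasedCategory.{v, max u v} C} {G : 𝒟 ⥤ᵇ ℰ} {P : ℰ ⥤ᵇ 𝒟}
    (i : BasedFunctor.comp G P ≅ BasedFunctor.id 𝒟) (hP : FibCat.IsEquivOver P) : FibCat.IsEquivOver G := by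
  obtain ⟨Q, ⟨a⟩, ⟨b⟩⟩ := hP
  exact isEquivOver_of_iso ((whiskerRightIso i Q).symm ≪≫ whiskerLeftIso G a) ⟨P, ⟨b⟩, ⟨a⟩⟩

end Slices

section Section

variable {𝔛 : BasedCategory.{v, max u v} C} {U : C} (b : FibCat.overCat U ⥤ᵇ 𝔛)

/-- The section of the slice map given by a functor out of the slice. -/
abbrev sliceSec : FibCat.overCat U ⥤ᵇ below (FibCat.overCat (b.obj (Over.mk (𝟙 U)))) where
  toFunctor :=
    { obj := fun a => Over.mk (b.map (toId a))
      map := fun {a a'} g => Over.homMk (b.map g) (by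
        show b.map g ≫ b.map (toId a') = b.map (toId a)
        rw [← b.toFunctor.map_comp]
        exact congrArg b.map (Over.OverMorphism.ext (Over.w g))) }
  w := b.w

lemma sec_cond (a : Over U) :
    𝔛.p.map (b.map (toId a)) ≫ eqToHom (b.w_obj (Over.mk (𝟙 U))) = eqToHom (b.w_obj a) ≫ a.hom := by
  rw [w_map]
  simp
  rfl

/-- The section is a section. -/
def sliceSecIso : BasedFunctor.comp (sliceSec b) (sliceMap (b.w_obj (Over.mk (𝟙 U)))) ≅
    BasedFunctor.id (FibCat.overCat U) :=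
  overIso _ _ fun a => (sec_cond b a).symm

lemma sliceSec_isEquivOver (h : FibCat.IsFibGrpd 𝔛.p) : FibCat.IsEquivOver (sliceSec b) :=
  isEquivOver_of_retract (sliceSecIso b) (sliceMap_isEquivOver _ h)

variable {Rb : Sieve U} {R : Sieve (b.obj (Over.mk (𝟙 U)))}
  (hR : ∀ {z : 𝔛.obj} (ψ : z ⟶ b.obj (Over.mk (𝟙 U))), R ψ ↔ Rb (𝔛.p.map ψ ≫ eqToHom (b.w_obj (Over.mk (𝟙 U)))))

/-- The section on sieves. -/
abbrev sieveSec : Stk.sieveCat Rb ⥤ᵇ below (Stk.sieveCat R) where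
  toFunctor := ObjectProperty.lift _ ((Stk.sieveIncl Rb).toFunctor ⋙ (sliceSec b).toFunctor)
    (fun a => (hR _).mpr (by
      show Rb (𝔛.p.map (b.map (toId a.obj)) ≫ eqToHom _)
      rw [sec_cond]
      exact Rb.downward_closed a.property _))
  w := congrArg (fun G => (Stk.sieveIncl Rb).toFunctor ⋙ G) b.w

lemma sieveSec_isEquivOver (h : FibCat.IsFibGrpd 𝔛.p) : FibCat.IsEquivOver (sieveSec b hR) := by
  haveI : (Stk.sieveIncl Rb).toFunctor.Full := inferInstanceAs (ObjectProperty.ι _).Full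
  haveI : (Stk.sieveIncl Rb).toFunctor.Faithful := inferInstanceAs (ObjectProperty.ι _).Faithful
  haveI := post_full (𝒜 := Stk.sieveCat Rb) (Stk.sieveIncl Rb)
  haveI := post_faithful (𝒜 := Stk.sieveCat Rb) (Stk.sieveIncl Rb)
  refine isEquivOver_of_retract (P := sieveMap (b.w_obj (Over.mk (𝟙 U))) hR) ?_ (sieveMap_isEquivOver _ hR h)
  exact (post (𝒜 := Stk.sieveCat Rb) (Stk.sieveIncl Rb)).preimageIso (whiskerLeftIso (Stk.sieveIncl Rb) (sliceSecIso b))

/-- Restriction between fibres is an equivalence when the base change is a stack. -/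
theorem pbFib_isEquivalence_of_bc (y : 𝔛 ⥤ᵇ 𝒯) (F : 𝒮 ⥤ᵇ 𝒯) (h : FibCat.IsFibGrpd 𝔛.p)
    (hR : ∀ {z : 𝔛.obj} (ψ : z ⟶ b.obj (Over.mk (𝟙 U))), R ψ ↔ Rb (𝔛.p.map ψ ≫ eqToHom (b.w_obj (Over.mk (𝟙 U)))))
    (hst : Stk.IsStackFor R (bcCat y F)) :
    (pbFib F (Stk.sieveIncl Rb) (BasedFunctor.comp b y)).IsEquivalence := by
  let j := belowMap (Stk.sieveIncl R)
  let t := BasedFunctor.comp (belowStr (FibCat.overCat (b.obj (Over.mk (𝟙 U))))) y
  haveI : (pbFib F j t).IsEquivalence := (isStackFor_bc_iff y F R).mp hst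
  have hs := sliceSec_isEquivOver b h
  have hsR := sieveSec_isEquivOver b hR h
  haveI := restr_isEquivalence (𝒳 := 𝒮) hs
  haveI := restr_isEquivalence (𝒳 := 𝒯) hs
  haveI := restr_isEquivalence (𝒳 := 𝒮) hsR
  haveI := restr_isEquivalence (𝒳 := 𝒯) hsR
  haveI := pbFib_isEquivalence_of_ff F (sliceSec b) t inferInstance ⟨inferInstance, inferInstance⟩
  haveI := pbFib_isEquivalence_of_ff F (sieveSec b hR) (BasedFunctor.comp j t) inferInstance ⟨inferInstance, inferInstance⟩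
  have key : pbFib F j t ⋙ pbFib F (sieveSec b hR) (BasedFunctor.comp j t) ≅
      pbFib F (sliceSec b) t ⋙ pbFib F (Stk.sieveIncl Rb) (BasedFunctor.comp (sliceSec b) t) :=
    pbFibComp F (sieveSec b hR) j t ≪≫ (pbFibComp F (Stk.sieveIncl Rb) (sliceSec b) t).symm
  exact (isEquivalence_square key).mp inferInstance

end Section

section Slices

variable {𝔛 : BasedCategory.{v, max u v} C}

/-- A category fibred in groupoids over `𝔛` is its own base change. -/
abbrev toBcId (G : 𝒮 ⥤ᵇ 𝔛) : BasedCategory.ofFunctor G.toFunctor ⥤ᵇ bcCat (BasedFunctor.id 𝔛) G :=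
  ⟨(FibCat.fpLift (F := BasedFunctor.id 𝔛) (G := G) G (BasedFunctor.id 𝒮) (Iso.refl G)).toFunctor, rfl⟩

lemma toBcId_isEquivOver (G : 𝒮 ⥤ᵇ 𝔛) (hG : FibCat.IsFibGrpd G.toFunctor) :
    FibCat.IsEquivOver (toBcId G) := by
  refine isEquivOver_of_exists_iso _ ⟨fun {a a'} t => ⟨t.hom.snd, ?_⟩⟩
    ⟨fun h => congrArg (fun t => t.hom.snd) h⟩ fun o => ?_
  · refine ObjectProperty.hom_ext _ (CategoricalPullback.hom_ext ?_ rfl)
    have w : t.hom.fst ≫ 𝟙 _ = 𝟙 _ ≫ G.map t.hom.snd := t.hom.w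
    exact ((Category.id_comp _).symm.trans (w.symm.trans (Category.comp_id _)))
  · let th : o.obj.fst ⟶ G.toFunctor.obj o.obj.snd := o.obj.iso.hom
    obtain ⟨z, ζ, hζ⟩ := hG.exists_lift th
    haveI : IsIso th := inferInstanceAs (IsIso o.obj.iso.hom)
    haveI := isIso_of_lift (p := G.toFunctor) th ζ
    have hz : G.toFunctor.obj z = o.obj.fst := IsHomLift.domain_eq G.toFunctor th ζ
    let e : (toBcId G).obj z ≅ o := fpIsoMk (x := (toBcId G).obj z) (y := o) (eqToIso hz) (asIso ζ) (by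
      show eqToHom hz ≫ th = 𝟙 _ ≫ G.map ζ
      rw [IsHomLift.fac' G.toFunctor th ζ]
      simp)
    exact ⟨z, e, isHomLift_id_of_map_eq (p := (bcCat (BasedFunctor.id 𝔛) G).p) (a := (toBcId G).obj z) (b := o) hz rfl rfl⟩

end Slices

section Theorems

variable (J : GrothendieckTopology C) {𝔛 : BasedCategory.{v, max u v} C}

theorem isStack_ofFunctor (h𝒮 : Stk.IsStack J 𝒮) (h𝔛 : Stk.IsPrestack J 𝔛) (G : 𝒮 ⥤ᵇ 𝔛)
    (hG : FibCat.IsFibGrpd G.toFunctor) :
    Stk.IsStack (𝔛.p.restrictedTopology J) (BasedCategory.ofFunctor G.toFunctor) := by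
  refine ⟨hG, fun x R hR => (isStackFor_iff _ R (toBcId_isEquivOver G hG)).mpr ?_⟩
  have hRb := (mem_restrictedTopology_iff h𝔛.1 J R).mp hR
  refine isStackFor_bc (hx := rfl) (BasedFunctor.id 𝔛) G h𝔛.1 (h𝒮.2 _ hRb) (h𝔛.2 _ hRb) ?_
  intro z ψ
  rw [eqToHom_refl, Category.comp_id]
  exact ⟨fun h => (mem_pushforward_iff h𝔛.1 R _).mpr ⟨z, ψ, inferInstance, h⟩, mem_of_lift h𝔛.1 R _ ψ⟩

theorem isStack_below (h𝔛 : Stk.IsStack J 𝔛) (𝔜 : BasedCategory.{v, max u v} 𝔛.obj)
    (h𝔜 : Stk.IsStack (𝔛.p.restrictedTopology J) 𝔜) : Stk.IsStack J (below 𝔜) := by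
  refine ⟨isFibGrpd_comp h𝔜.1 h𝔛.1, fun U Rb hRb => ?_⟩
  refine isEquivalence_of_fibres (belowStr 𝔜) h𝔛.1 (Stk.sieveIncl Rb) (h𝔛.2 Rb hRb) fun t => ?_
  let hx : 𝔛.p.obj (t.obj (Over.mk (𝟙 U))) = U := t.w_obj _
  let R : Sieve (t.obj (Over.mk (𝟙 U))) :=
    { arrows := fun z ψ => Rb (𝔛.p.map ψ ≫ eqToHom hx)
      downward_closed := fun {_ _ f} hf g => by
        rw [Functor.map_comp, Category.assoc]
        exact Rb.downward_closed hf _ }
  have hR : R ∈ 𝔛.p.restrictedTopology J _ := by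
    rw [mem_restrictedTopology_iff h𝔛.1]
    refine J.superset_covering ?_ (J.pullback_stable (eqToHom hx) hRb)
    intro V g hg
    obtain ⟨z, ψ, hψ⟩ := h𝔛.1.exists_lift g
    refine (mem_pushforward_iff h𝔛.1 R g).mpr ⟨z, ψ, hψ, ?_⟩
    show Rb (𝔛.p.map ψ ≫ eqToHom hx)
    rw [IsHomLift.fac' 𝔛.p g ψ]
    simp only [eqToHom_refl, Category.comp_id, Category.assoc]
    exact Rb.downward_closed hg _
  have := (isStackFor_iff (toBcId (belowStr 𝔜)) R (toBcId_isEquivOver (belowStr 𝔜) h𝔜.1)).mp (h𝔜.2 R hR)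
  exact pbFib_isEquivalence_of_bc t (BasedFunctor.id 𝔛) (belowStr 𝔜) h𝔛.1 (fun _ => Iff.rfl) this

theorem isStack_of_fibres (h𝒮 : FibCat.IsFibGrpd 𝒮.p) (h𝒯 : Stk.IsStack J 𝒯) (F : 𝒮 ⥤ᵇ 𝒯)
    (h : ∀ (U : C) (y : FibCat.overCat U ⥤ᵇ 𝒯), Stk.IsStack (J.over U) (bcCat y F)) : Stk.IsStack J 𝒮 := by
  refine ⟨h𝒮, fun U Rb hRb => ?_⟩
  refine isEquivalence_of_fibres F h𝒯.1 (Stk.sieveIncl Rb) (h𝒯.2 Rb hRb) fun t => ?_
  have hst := (h U t).2 _ (J.overEquiv_symm_mem_over (Over.mk (𝟙 U)) Rb hRb)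
  refine pbFib_isEquivalence_of_bc (BasedFunctor.id (FibCat.overCat U)) t F (isFibSet_overForget U).1 ?_ hst
  intro z ψ
  rw [Sieve.overEquiv_symm_iff]
  exact iff_of_eq (congrArg (fun g => Rb g) (Category.comp_id _).symm)

end Theorems

end Groth.Agent.StkLib
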