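import Groth.Agent.StkLib.Basic

/-!
# Functors into a 2-fibre product over the base
-/

set_option autoImplicit false
set_option backward.isDefEq.respectTransparency false
set_option backward.isDefEq.respectTransparency.types false

universe w v u

open CategoryTheory CategoryTheory.Functor CategoryTheory.Limits Groth.Agent.FibBase

namespace Groth.Agent.StkLib

variable {C : Type u} [Category.{v} C] {𝒳 𝒴 𝒮 : BasedCategory.{v, max u v} C}
  (F : 𝒳 ⥤ᵇ 𝒮) (G : 𝒴 ⥤ᵇ 𝒮) (𝒜 : BasedCategory.{v, max u v} C)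

/-- A functor into the 2-fibre product gives a pair of functors and a 2-isomorphism. -/
@[simps]
def fpHom : (𝒜 ⥤ᵇ FibCat.fp F G) ⥤ CategoricalPullback (post (𝒜 := 𝒜) F) (post (𝒜 := 𝒜) G) where
  obj H := { fst := BasedFunctor.comp H (FibCat.fpFst F G)
             snd := BasedFunctor.comp H (FibCat.fpSnd F G)
             iso := whiskerLeftIso H (FibCat.fpIso F G) }
  map {H H'} α := { fst := BasedCategory.whiskerRight α (FibCat.fpFst F G)
                    snd := BasedCategory.whiskerRight α (FibCat.fpSnd F G)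
                    w := hext fun a => (α.toNatTrans.app a).hom.w }
  map_id H := CategoricalPullback.hom_ext (hext fun a => rfl) (hext fun a => rfl)
  map_comp α β := CategoricalPullback.hom_ext (hext fun a => rfl) (hext fun a => rfl)

lemma fpHom_isEquivalence : (fpHom F G 𝒜).IsEquivalence where
  faithful := ⟨fun {H H'} α β h => hext fun a => ObjectProperty.hom_ext _ (CategoricalPullback.hom_ext
    (congrArg (fun t => t.fst.toNatTrans.app a) h) (congrArg (fun t => t.snd.toNatTrans.app a) h))⟩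
  full := ⟨fun {H H'} t => by
    let η : ∀ a, H.obj a ⟶ H'.obj a := fun a => ObjectProperty.homMk
      { fst := t.fst.toNatTrans.app a
        snd := t.snd.toNatTrans.app a
        w := congrArg (fun s => s.toNatTrans.app a) t.w }
    refine ⟨{ toNatTrans := { app := η, naturality := fun a b g => ?_ },
              isHomLift' := fun a => ?_ }, CategoricalPullback.hom_ext (hext fun a => rfl) (hext fun a => rfl)⟩
    · exact ObjectProperty.hom_ext _
        (CategoricalPullback.hom_ext (t.fst.toNatTrans.naturality g) (t.snd.toNatTrans.naturality g))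
    exact isHomLift_id_of_map_eq (H.w_obj a) (H'.w_obj a)
      (map_eq_of_isHomLift_id (p := 𝒳.p) (t.fst.isHomLift' a))⟩
  essSurj := ⟨fun t => ⟨FibCat.fpLift t.fst t.snd t.iso,
    ⟨CategoricalPullback.mkIso (Iso.refl _) (Iso.refl _)
      (hext fun a => by
        refine (congrArg (· ≫ _) (F.toFunctor.map_id _)).trans ?_
        refine (Category.id_comp _).trans ?_
        refine Eq.trans ?_ (congrArg (_ ≫ ·) (G.toFunctor.map_id _)).symm
        exact (Category.comp_id _).symm)⟩⟩⟩

variable {𝒜} {ℬ : BasedCategory.{v, max u v} C} (ι : 𝒜 ⥤ᵇ ℬ)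

/-- The map of cospans given by restriction. -/
def restrCospan : CatCospanTransform (post (𝒜 := ℬ) F) (post (𝒜 := ℬ) G) (post (𝒜 := 𝒜) F) (post (𝒜 := 𝒜) G) where
  left := Stk.restr ι 𝒳
  base := Stk.restr ι 𝒮
  right := Stk.restr ι 𝒴
  squareLeft := ⟨(restrPost ι F).symm⟩
  squareRight := ⟨(restrPost ι G).symm⟩

/-- Restriction of functors into a 2-fibre product, computed componentwise. -/
noncomputable def restrFpHom : Stk.restr ι (FibCat.fp F G) ⋙ fpHom F G 𝒜 ≅
    fpHom F G ℬ ⋙ FibCat.categoricalPullbackMap (restrCospan F G ι) :=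
  NatIso.ofComponents (fun H => CategoricalPullback.mkIso (Iso.refl _) (Iso.refl _) (by
      refine (congrArg (_ ≫ ·) (pbMap_iso (restrCospan F G ι) ((fpHom F G ℬ).obj H))).trans ?_
      refine hext fun a => ?_
      show F.map (𝟙 _) ≫ 𝟙 _ ≫ ((fpHom F G ℬ).obj H).iso.hom.toNatTrans.app (ι.obj a) ≫ 𝟙 _ = _ ≫ G.map (𝟙 _)
      simp
      rfl))
    (fun α => CategoricalPullback.hom_ext (hext fun a => (Category.comp_id _).trans (Category.id_comp _).symm)
      (hext fun a => (Category.comp_id _).trans (Category.id_comp _).symm))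

theorem isStackFor_fp {U : C} {R : Sieve U} (h𝒳 : Stk.IsStackFor R 𝒳) (h𝒴 : Stk.IsStackFor R 𝒴)
    (h𝒮 : Stk.IsPrestackFor R 𝒮) : Stk.IsStackFor R (FibCat.fp F G) := by
  have := fpHom_isEquivalence F G (FibCat.overCat U)
  have := fpHom_isEquivalence F G (Stk.sieveCat R)
  haveI : (restrCospan F G (Stk.sieveIncl R)).left.IsEquivalence := h𝒳
  haveI : (restrCospan F G (Stk.sieveIncl R)).right.IsEquivalence := h𝒴
  haveI : (restrCospan F G (Stk.sieveIncl R)).base.Full := h𝒮.1
  haveI : (restrCospan F G (Stk.sieveIncl R)).base.Faithful := h𝒮.2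
  have := pbMap_isEquivalence (restrCospan F G (Stk.sieveIncl R))
  exact (isEquivalence_square (restrFpHom F G (Stk.sieveIncl R))).mpr this

theorem isStack_fp {J : GrothendieckTopology C} (h𝒳 : Stk.IsStack J 𝒳) (h𝒴 : Stk.IsStack J 𝒴)
    (h𝒮 : Stk.IsPrestack J 𝒮) : Stk.IsStack J (FibCat.fp F G) :=
  ⟨fp_isFibGrpd h𝒳.1 h𝒴.1 h𝒮.1, fun _ R hR => isStackFor_fp F G (h𝒳.2 R hR) (h𝒴.2 R hR) (h𝒮.2 R hR)⟩

theorem fp_faithful (h𝒳 : 𝒳.p.Faithful) (h𝒴 : 𝒴.p.Faithful) : (FibCat.fp F G).p.Faithful := by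
  refine ⟨fun {x y} φ ψ h => ?_⟩
  have hφ := FibCat.fp_isHomLift_snd F G φ
  have hψ := FibCat.fp_isHomLift_snd F G ψ
  refine ObjectProperty.hom_ext _ (CategoricalPullback.hom_ext (h𝒳.map_injective h) (h𝒴.map_injective ?_))
  rw [IsHomLift.fac' 𝒴.p ((FibCat.fp F G).p.map φ) φ.hom.snd,
    IsHomLift.fac' 𝒴.p ((FibCat.fp F G).p.map ψ) ψ.hom.snd]
  exact congrArg (fun t => _ ≫ t ≫ _) h

end Groth.Agent.StkLib
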