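import Groth.Agent.StkLib.Basic
import Groth.Agent.AlgStLib.OfPsh
import Mathlib.CategoryTheory.Sites.Sheaf

/-!
# The category of a presheaf of sets as a stack
-/

set_option autoImplicit false
set_option backward.isDefEq.respectTransparency false
set_option backward.isDefEq.respectTransparency.types false

universe w v₂ u₂ v u

open CategoryTheory CategoryTheory.Functor Opposite Groth.Agent.FibBase Groth.Agent.AlgStLib

namespace Groth.Agent.StkLib

variable {C : Type u} [Category.{v} C] (P : Cᵒᵖ ⥤ Type w)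

lemma ofPsh_hom_eq {𝒜 : BasedCategory.{v₂, u₂} C} {G H : 𝒜 ⥤ᵇ Stk.ofPsh P} (α β : G ⟶ H) : α = β :=
  hext fun a => Stk.EltObj.hom_ext (by
    have hα := map_eq_of_isHomLift_id (p := (Stk.ofPsh P).p) (α.isHomLift' a)
    have hβ := map_eq_of_isHomLift_id (p := (Stk.ofPsh P).p) (β.isHomLift' a)
    exact hα.trans hβ.symm)

lemma secAt_comp {𝒜 ℬ : BasedCategory.{v₂, u₂} C} (ι : 𝒜 ⥤ᵇ ℬ) (G : ℬ ⥤ᵇ Stk.ofPsh P) (a : 𝒜.obj) :
    secAt (BasedFunctor.comp ι G) a = P.map (eqToHom (ι.w_obj a).symm).op (secAt G (ι.obj a)) :=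
  (res_congr P (eqToHom_trans _ _).symm _).trans (res_res P _ _ _).symm

variable {U : C}

/-- The functor out of a slice given by a section. -/
def ofSec (t : P.obj (op U)) : FibCat.overCat U ⥤ᵇ Stk.ofPsh P where
  toFunctor :=
    { obj := fun a => ⟨a.left, P.map a.hom.op t⟩
      map := fun {a b} g => ⟨g.left, (res_res P _ _ _).trans (res_congr P (Over.w g) t)⟩ }
  w := rfl

/-- The functor out of a sieve given by a compatible family. -/
def ofFam {R : Sieve U} (x : Presieve.FamilyOfElements P R.arrows) (hx : x.Compatible) :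
    Stk.sieveCat R ⥤ᵇ Stk.ofPsh P where
  toFunctor :=
    { obj := fun a => ⟨a.obj.left, x a.obj.hom a.property⟩
      map := fun {a b} g => ⟨g.hom.left, by
        refine (hx g.hom.left (𝟙 a.obj.left) b.property a.property
          ((Over.w g.hom).trans (Category.id_comp _).symm)).trans ?_
        exact res_id P _ rfl _⟩ }
  w := rfl

lemma secAt_ofSec (t : P.obj (op U)) (a : Over U) : secAt (ofSec P t) a = P.map a.hom.op t :=
  res_id P _ rfl _

lemma secAt_ofFam {R : Sieve U} (x : Presieve.FamilyOfElements P R.arrows) (hx : x.Compatible)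
    (a : (Stk.sieveCat R).obj) : secAt (ofFam P x hx) a = x a.obj.hom a.property :=
  res_id P _ rfl _

lemma secAt_res {R : Sieve U} (G : FibCat.overCat U ⥤ᵇ Stk.ofPsh P) (a : (Stk.sieveCat R).obj) :
    secAt ((Stk.resSieve R (Stk.ofPsh P)).obj G) a = secAt G a.obj :=
  (secAt_comp P (Stk.sieveIncl R) G a).trans (res_id P _ rfl _)

theorem isPrestackFor_ofPsh_iff (R : Sieve U) :
    Stk.IsPrestackFor R (Stk.ofPsh P) ↔ Presieve.IsSeparatedFor P R.arrows := by
  constructor
  · rintro ⟨_, _⟩ x t₁ t₂ h₁ h₂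
    let i : (Stk.resSieve R (Stk.ofPsh P)).obj (ofSec P t₁) ≅ (Stk.resSieve R (Stk.ofPsh P)).obj (ofSec P t₂) :=
      pshIso _ _ fun a => by
        rw [secAt_res, secAt_res, secAt_ofSec, secAt_ofSec]
        exact (h₁ a.obj.hom a.property).trans (h₂ a.obj.hom a.property).symm
    have := secAt_eq_of_iso ((Stk.resSieve R (Stk.ofPsh P)).preimageIso i) (Over.mk (𝟙 U))
    rw [secAt_ofSec, secAt_ofSec] at this
    exact (res_id P _ rfl _).symm.trans (this.trans (res_id P _ rfl _))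
  · intro h
    refine ⟨⟨fun {G H} β => ?_⟩, ⟨fun _ => ofPsh_hom_eq P _ _⟩⟩
    have hGH : ∀ a : Over U, secAt G a = secAt H a := by
      have key : secAt G (Over.mk (𝟙 U)) = secAt H (Over.mk (𝟙 U)) := by
        refine h.ext fun V f hf => ?_
        have hβ := secAt_eq_of_iso (@asIso _ _ _ _ β (hom_isIso (Stk.isFibGrpd_ofPsh P) β)) ⟨Over.mk f, hf⟩
        rw [secAt_res, secAt_res] at hβ
        exact (secAt_map G (toId (Over.mk f))).trans (hβ.trans (secAt_map H (toId (Over.mk f))).symm)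
      intro a
      rw [← secAt_map G (toId a), ← secAt_map H (toId a)]
      exact congrArg _ key
    exact ⟨(pshIso G H hGH).hom, ofPsh_hom_eq P _ _⟩

theorem isStackFor_ofPsh_iff (R : Sieve U) :
    Stk.IsStackFor R (Stk.ofPsh P) ↔ Presieve.IsSheafFor P R.arrows := by
  constructor
  · intro h
    haveI : (Stk.resSieve R (Stk.ofPsh P)).IsEquivalence := h
    have hsep := (isPrestackFor_ofPsh_iff P R).mp ⟨inferInstance, inferInstance⟩
    refine Presieve.isSeparatedFor_and_exists_isAmalgamation_iff_isSheafFor.mp ⟨hsep, fun x hx => ?_⟩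
    let G := (Stk.resSieve R (Stk.ofPsh P)).objPreimage (ofFam P x hx)
    refine ⟨secAt G (Over.mk (𝟙 U)), fun V f hf => ?_⟩
    have e := secAt_eq_of_iso ((Stk.resSieve R (Stk.ofPsh P)).objObjPreimageIso (ofFam P x hx)) ⟨Over.mk f, hf⟩
    rw [secAt_res, secAt_ofFam] at e
    exact (secAt_map G (toId (Over.mk f))).trans e
  · intro h
    obtain ⟨_, _⟩ := (isPrestackFor_ofPsh_iff P R).mpr h.isSeparatedFor
    refine { essSurj := ⟨fun H => ?_⟩ }
    let x : Presieve.FamilyOfElements P R.arrows := fun V f hf => secAt H ⟨Over.mk f, hf⟩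
    have hx : x.Compatible := by
      intro Y₁ Y₂ Z g₁ g₂ f₁ f₂ h₁ h₂ e
      refine (secAt_map H (ObjectProperty.homMk (Over.homMk g₁ (by simp)) :
        (⟨Over.mk (g₁ ≫ f₁), R.downward_closed h₁ g₁⟩ : (Stk.sieveCat R).obj) ⟶ ⟨Over.mk f₁, h₁⟩)).trans ?_
      exact (secAt_map H (ObjectProperty.homMk (Over.homMk g₂ e.symm) :
        (⟨Over.mk (g₁ ≫ f₁), R.downward_closed h₁ g₁⟩ : (Stk.sieveCat R).obj) ⟶ ⟨Over.mk f₂, h₂⟩)).symm
    obtain ⟨t, ht, -⟩ := h x hx
    exact ⟨ofSec P t, ⟨pshIso _ _ fun a => (secAt_res P _ a).trans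
      ((secAt_ofSec P t a.obj).trans (ht a.obj.hom a.property))⟩⟩

theorem isStack_ofPsh_iff (J : GrothendieckTopology C) :
    Stk.IsStack J (Stk.ofPsh P) ↔ Presieve.IsSheaf J P :=
  ⟨fun h _ R hR => (isStackFor_ofPsh_iff P R).mp (h.2 R hR),
    fun h => ⟨Stk.isFibGrpd_ofPsh P, fun _ R hR => (isStackFor_ofPsh_iff P R).mpr (h R hR)⟩⟩

/-- The slice as the category of the representable presheaf. -/
def overToYoneda (U : C) : FibCat.overCat U ⥤ᵇ Stk.ofPsh (yoneda.obj U) where
  toFunctor :=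
    { obj := fun a => ⟨a.left, a.hom⟩
      map := fun g => ⟨g.left, Over.w g⟩ }
  w := rfl

lemma overToYoneda_isEquivOver (U : C) : FibCat.IsEquivOver (overToYoneda U) :=
  isEquivOver_of_exists_iso (overToYoneda U)
    ⟨fun f => ⟨Over.homMk f.hom f.map_sec, rfl⟩⟩
    ⟨fun h => Over.OverMorphism.ext (congrArg Stk.EltObj.Hom.hom h)⟩
    (fun η => ⟨Over.mk η.sec, Iso.refl _, IsHomLift.id rfl⟩)

theorem isStack_overCat_iff (J : GrothendieckTopology C) (U : C) :
    Stk.IsStack J (FibCat.overCat U) ↔ Presieve.IsSheaf J (yoneda.obj U) :=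
  (isStack_iff_of_isEquivOver J (overToYoneda_isEquivOver U)).trans (isStack_ofPsh_iff (yoneda.obj U) J)

end Groth.Agent.StkLib
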