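import Groth.Prelude.Def_AlgSt
import Groth.Agent.FibBase.Cartesian
import Groth.Agent.FibBase.Fp
import Groth.Agent.FibBase.Yoneda
import Groth.Agent.FibBase.PullbackMap

/-!
# Categories of functors over a base: restriction and postcomposition
-/

set_option autoImplicit false
set_option backward.isDefEq.respectTransparency false
set_option backward.isDefEq.respectTransparency.types false

universe v₆ u₆ v₅ u₅ v₄ u₄ v₃ u₃ v₂ u₂ v u

open CategoryTheory CategoryTheory.Functor CategoryTheory.Limits Groth.Agent.FibBase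

namespace Groth.Agent.StkLib

variable {C : Type u} [Category.{v} C] {𝒜 : BasedCategory.{v₂, u₂} C} {ℬ : BasedCategory.{v₃, u₃} C}
  {𝒳 : BasedCategory.{v₄, u₄} C} {𝒴 : BasedCategory.{v₅, u₅} C}

lemma hext {G H : 𝒜 ⥤ᵇ 𝒳} {α β : G ⟶ H} (h : ∀ a, α.toNatTrans.app a = β.toNatTrans.app a) : α = β :=
  BasedNatTrans.homCategory.ext α β (NatTrans.ext (funext h))

lemma comp_app {F G H : 𝒜 ⥤ᵇ 𝒳} (α : F ⟶ G) (β : G ⟶ H) (a : 𝒜.obj) :
    (α ≫ β).toNatTrans.app a = α.toNatTrans.app a ≫ β.toNatTrans.app a := rfl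

lemma id_app (F : 𝒜 ⥤ᵇ 𝒳) (a : 𝒜.obj) : (𝟙 F : F ⟶ F).toNatTrans.app a = 𝟙 (F.obj a) := rfl

/-- 2-morphisms with values in a category fibred in groupoids are invertible. -/
lemma hom_isIso (h : FibCat.IsFibGrpd 𝒳.p) {G H : 𝒜 ⥤ᵇ 𝒳} (α : G ⟶ H) : IsIso α := by
  haveI : ∀ a, IsIso (α.toNatTrans.app a) := fun a => isIso_of_lift (p := 𝒳.p) (𝟙 (𝒜.p.obj a)) _
  haveI : IsIso (X := G.toFunctor) α.toNatTrans := NatIso.isIso_of_isIso_app _
  exact BasedNatIso.isIso_of_toNatTrans_isIso α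

lemma w_map (F : 𝒳 ⥤ᵇ 𝒴) {a b : 𝒳.obj} (φ : a ⟶ b) :
    𝒴.p.map (F.map φ) = eqToHom (F.w_obj a) ≫ 𝒳.p.map φ ≫ eqToHom (F.w_obj b).symm := by
  simpa using Functor.congr_hom F.w φ

/-- Postcomposition by a functor over the base. -/
@[simps]
def post (F : 𝒳 ⥤ᵇ 𝒴) : (𝒜 ⥤ᵇ 𝒳) ⥤ (𝒜 ⥤ᵇ 𝒴) where
  obj G := BasedFunctor.comp G F
  map α := BasedCategory.whiskerRight α F
  map_id G := hext fun a => F.toFunctor.map_id _
  map_comp α β := hext fun a => F.toFunctor.map_comp _ _

lemma post_faithful (F : 𝒳 ⥤ᵇ 𝒴) [F.toFunctor.Faithful] : (post (𝒜 := 𝒜) F).Faithful :=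
  ⟨fun h => hext fun a => F.toFunctor.map_injective (congrArg (fun t => t.toNatTrans.app a) h)⟩

lemma post_full (F : 𝒳 ⥤ᵇ 𝒴) [F.toFunctor.Full] [F.toFunctor.Faithful] : (post (𝒜 := 𝒜) F).Full := by
  refine ⟨fun {G H} β => ?_⟩
  let η : ∀ a, G.obj a ⟶ H.obj a := fun a => F.toFunctor.preimage (β.toNatTrans.app a)
  have hη : ∀ a, F.map (η a) = β.toNatTrans.app a := fun a => F.toFunctor.map_preimage _
  refine ⟨{ toNatTrans := { app := η, naturality := fun a b g => F.toFunctor.map_injective ?_ },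
            isHomLift' := fun a => ?_ }, hext hη⟩
  · simp only [Functor.map_comp, hη]
    exact β.toNatTrans.naturality g
  · rw [← F.isHomLift_iff, hη]
    exact β.isHomLift' a

lemma post_isEquivalence {F : 𝒳 ⥤ᵇ 𝒴} (hF : FibCat.IsEquivOver F) : (post (𝒜 := 𝒜) F).IsEquivalence := by
  have := full_of_isEquivOver hF
  have := faithful_of_isEquivOver hF
  obtain ⟨G, -, ⟨d⟩⟩ := hF
  exact { faithful := post_faithful F, full := post_full F,
          essSurj := ⟨fun K => ⟨BasedFunctor.comp K G, ⟨whiskerLeftIso K d⟩⟩⟩ }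

/-- Restriction commutes with postcomposition. -/
def restrPost (ι : 𝒜 ⥤ᵇ ℬ) (F : 𝒳 ⥤ᵇ 𝒴) : Stk.restr ι 𝒳 ⋙ post F ≅ post F ⋙ Stk.restr ι 𝒴 :=
  NatIso.ofComponents (fun G => Iso.refl _) (fun _ => hext fun _ => (Category.comp_id _).trans (Category.id_comp _).symm)

/-- Restriction along an equivalence over the base is an equivalence. -/
lemma restr_isEquivalence {ι : 𝒜 ⥤ᵇ ℬ} (hι : FibCat.IsEquivOver ι) : (Stk.restr ι 𝒳).IsEquivalence := by
  obtain ⟨G, ⟨c⟩, ⟨d⟩⟩ := hι
  refine (CategoryTheory.Equivalence.mk (Stk.restr ι 𝒳) (Stk.restr G 𝒳)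
    (NatIso.ofComponents (fun K => (whiskerRightIso d K).symm) ?_)
    (NatIso.ofComponents (fun K => whiskerRightIso c K) ?_)).isEquivalence_functor
  · exact fun {K L} α => hext fun b => (α.toNatTrans.naturality (d.inv.toNatTrans.app b)).symm
  · exact fun {K L} α => hext fun b => (α.toNatTrans.naturality (c.hom.toNatTrans.app b)).symm

section Square

variable {A : Type*} [Category A] {B : Type*} [Category B] {A' : Type*} [Category A'] {B' : Type*} [Category B']
  {R : A ⥤ B} {R' : A' ⥤ B'} {L : A ⥤ A'} {M : B ⥤ B'}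

lemma isEquivalence_square (e : R ⋙ M ≅ L ⋙ R') [L.IsEquivalence] [M.IsEquivalence] :
    R.IsEquivalence ↔ R'.IsEquivalence := by
  constructor <;> intro h
  · have : (L ⋙ R').IsEquivalence := Functor.isEquivalence_of_iso e
    exact Functor.isEquivalence_of_comp_left L R'
  · have : (R ⋙ M).IsEquivalence := Functor.isEquivalence_of_iso e.symm
    exact Functor.isEquivalence_of_comp_right R M

lemma fullyFaithful_of_square (e : R ⋙ M ≅ L ⋙ R') [L.IsEquivalence] [M.Full] [M.Faithful]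
    (h : R.Full ∧ R.Faithful) : R'.Full ∧ R'.Faithful := by
  obtain ⟨_, _⟩ := h
  haveI : (L ⋙ R').Full := Functor.Full.of_iso e
  haveI : (L ⋙ R').Faithful := Functor.Faithful.of_iso e
  let i : L.asEquivalence.inverse ⋙ L ⋙ R' ≅ R' := (Functor.associator _ _ _).symm ≪≫
    Functor.isoWhiskerRight L.asEquivalence.counitIso R' ≪≫ Functor.leftUnitor R'
  exact ⟨Functor.Full.of_iso i, Functor.Faithful.of_iso i⟩

lemma fullyFaithful_of_square' (e : R ⋙ M ≅ L ⋙ R') [L.Full] [L.Faithful] [M.Faithful]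
    (h : R'.Full ∧ R'.Faithful) : R.Full ∧ R.Faithful := by
  obtain ⟨_, _⟩ := h
  haveI : (R ⋙ M).Full := Functor.Full.of_iso e.symm
  haveI : (R ⋙ M).Faithful := Functor.Faithful.of_iso e.symm
  exact ⟨Functor.Full.of_comp_faithful R M, Functor.Faithful.of_comp R M⟩

end Square

section Invariance

variable (F : 𝒳 ⥤ᵇ 𝒴)

lemma isStackFor_iff {U : C} (R : Sieve U) (hF : FibCat.IsEquivOver F) :
    Stk.IsStackFor R 𝒳 ↔ Stk.IsStackFor R 𝒴 := by
  have := post_isEquivalence (𝒜 := FibCat.overCat U) hF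
  have := post_isEquivalence (𝒜 := Stk.sieveCat R) hF
  exact isEquivalence_square (restrPost (Stk.sieveIncl R) F)

lemma isPrestackFor_iff {U : C} (R : Sieve U) (hF : FibCat.IsEquivOver F) :
    Stk.IsPrestackFor R 𝒳 ↔ Stk.IsPrestackFor R 𝒴 := by
  have := post_isEquivalence (𝒜 := FibCat.overCat U) hF
  have := post_isEquivalence (𝒜 := Stk.sieveCat R) hF
  exact ⟨fullyFaithful_of_square (restrPost (Stk.sieveIncl R) F),
    fullyFaithful_of_square' (restrPost (Stk.sieveIncl R) F)⟩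

/-- Morphisms of a full subcategory glue if those of the ambient category do. -/
lemma isPrestackFor_of_fullyFaithful [F.toFunctor.Full] [F.toFunctor.Faithful] {U : C} {R : Sieve U}
    (h : Stk.IsPrestackFor R 𝒴) : Stk.IsPrestackFor R 𝒳 := by
  have := post_full (𝒜 := FibCat.overCat U) F
  have := post_faithful (𝒜 := FibCat.overCat U) F
  have := post_faithful (𝒜 := Stk.sieveCat R) F
  exact fullyFaithful_of_square' (restrPost (Stk.sieveIncl R) F) h

variable {F} (J : GrothendieckTopology C)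

theorem isStack_iff_of_isEquivOver (hF : FibCat.IsEquivOver F) : Stk.IsStack J 𝒳 ↔ Stk.IsStack J 𝒴 :=
  and_congr (isFibGrpd_iff_of_isEquivOver hF)
    (forall_congr' fun _ => forall_congr' fun R => imp_congr Iff.rfl (isStackFor_iff F R hF))

theorem isPrestack_iff_of_isEquivOver (hF : FibCat.IsEquivOver F) :
    Stk.IsPrestack J 𝒳 ↔ Stk.IsPrestack J 𝒴 :=
  and_congr (isFibGrpd_iff_of_isEquivOver hF)
    (forall_congr' fun _ => forall_congr' fun R => imp_congr Iff.rfl (isPrestackFor_iff F R hF))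

end Invariance

lemma isPrestack_of_isStack {J : GrothendieckTopology C} (h : Stk.IsStack J 𝒳) : Stk.IsPrestack J 𝒳 :=
  ⟨h.1, fun _ R hR => by
    have : (Stk.resSieve R 𝒳).IsEquivalence := h.2 R hR
    exact ⟨inferInstance, inferInstance⟩⟩

end Groth.Agent.StkLib
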