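import Groth.Agent.StkLib.Basic
import Groth.Agent.FibBase.Slices

/-!
# Functors out of slices and sieves
-/

set_option autoImplicit false
set_option backward.isDefEq.respectTransparency false
set_option backward.isDefEq.respectTransparency.types false

universe v₅ u₅ v₄ u₄ v₂ u₂ v u

open CategoryTheory CategoryTheory.Functor Groth.Agent.FibBase

namespace Groth.Agent.StkLib

variable {C : Type u} [Category.{v} C] {𝒳 : BasedCategory.{v₄, u₄} C} {𝒴 : BasedCategory.{v₅, u₅} C}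
  {𝒜 : BasedCategory.{v₂, u₂} C}

/-- An arrow of a sieve as an object of the sieve seen as a category over the base. -/
abbrev sob {U V : C} {R : Sieve U} (f : V ⟶ U) (hf : R f) : (Stk.sieveCat R).obj := ⟨Over.mk f, hf⟩

/-- A functor over the base which pointwise lifts through a fully faithful functor lifts. -/
lemma exists_lift_post (F : 𝒳 ⥤ᵇ 𝒴) [F.toFunctor.Full] [F.toFunctor.Faithful] (K : 𝒜 ⥤ᵇ 𝒴)
    (h : ∀ a : 𝒜.obj, ∃ (x : 𝒳.obj) (e : F.obj x ≅ K.obj a), 𝒴.p.IsHomLift (𝟙 (𝒜.p.obj a)) e.hom) :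
    ∃ H : 𝒜 ⥤ᵇ 𝒳, Nonempty (BasedFunctor.comp H F ≅ K) := by
  choose ξ e he using h
  let H₀ : 𝒜.obj ⥤ 𝒳.obj :=
    { obj := ξ
      map := fun {a b} φ => F.toFunctor.preimage ((e a).hom ≫ K.map φ ≫ (e b).inv)
      map_id := fun a => F.toFunctor.map_injective (by simp)
      map_comp := fun φ ψ => F.toFunctor.map_injective (by simp) }
  have hξ : ∀ a, 𝒳.p.obj (ξ a) = 𝒜.p.obj a := fun a =>
    (F.w_obj (ξ a)).symm.trans (IsHomLift.domain_eq 𝒴.p (𝟙 (𝒜.p.obj a)) (e a).hom)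
  have hlift : ∀ {a b : 𝒜.obj} (φ : a ⟶ b), 𝒳.p.IsHomLift (𝒜.p.map φ) (H₀.map φ) := by
    intro a b φ
    rw [← F.isHomLift_iff]
    have := he a
    have := he b
    have := IsHomLift.lift_id_inv 𝒴.p (𝒜.p.obj b) (e b)
    have := IsHomLift.map 𝒜.p φ
    have := K.preserves_isHomLift (𝒜.p.map φ) φ
    simpa [H₀] using (inferInstance : 𝒴.p.IsHomLift (𝒜.p.map φ) ((e a).hom ≫ K.map φ ≫ (e b).inv))
  refine ⟨⟨H₀, CategoryTheory.Functor.ext hξ fun a b φ => ?_⟩, ⟨BasedNatIso.mkNatIso (NatIso.ofComponents e ?_) ?_⟩⟩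
  · have := hlift φ
    exact IsHomLift.fac' 𝒳.p (𝒜.p.map φ) (H₀.map φ)
  · intro a b φ
    show F.map (F.toFunctor.preimage ((e a).hom ≫ K.map φ ≫ (e b).inv)) ≫ (e b).hom = (e a).hom ≫ K.map φ
    simp
  · exact fun a => he a

/-- Existence of a functor out of a slice with a given value at the identity. -/
lemma exists_ofObj (h : FibCat.IsFibGrpd 𝒳.p) {U : C} (x : 𝒳.obj) (hx : 𝒳.p.obj x = U) :
    ∃ (G : FibCat.overCat U ⥤ᵇ 𝒳) (e : G.obj (Over.mk (𝟙 U)) ≅ x), 𝒳.p.IsHomLift (𝟙 U) e.hom := by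
  have := evalAtId_isEquivalence h U
  let G := (FibCat.evalAtId 𝒳 U).objPreimage ⟨x, hx⟩
  let e := (FibCat.evalAtId 𝒳 U).objObjPreimageIso ⟨x, hx⟩
  exact ⟨G, ofFiberIso e, ofFiberIso_lift e⟩

/-- Functors out of a slice agreeing at the identity are isomorphic. -/
lemma exists_iso_of_atId (h : FibCat.IsFibGrpd 𝒳.p) {U : C} (G H : FibCat.overCat U ⥤ᵇ 𝒳)
    (t : G.obj (Over.mk (𝟙 U)) ⟶ H.obj (Over.mk (𝟙 U))) (ht : 𝒳.p.IsHomLift (𝟙 U) t) :
    Nonempty (G ≅ H) :=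
  have := hom_isIso h (homOfEval (preserves_of_isFibGrpd h H) t ht)
  ⟨asIso (homOfEval (preserves_of_isFibGrpd h H) t ht)⟩

/-- The value at an arrow is a pullback of the value at the identity. -/
lemma toId_lift {U V : C} (G : FibCat.overCat U ⥤ᵇ 𝒳) (f : V ⟶ U) :
    𝒳.p.IsHomLift f (G.map (toId (Over.mk f))) := overMap_isHomLift G (toId (Over.mk f))

/-- Any lift of an arrow with target the value at the identity is isomorphic to the value at that arrow. -/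
lemma exists_iso_at (h : FibCat.IsFibGrpd 𝒳.p) {U : C} (G : FibCat.overCat U ⥤ᵇ 𝒳) (a : Over U) {x y : 𝒳.obj}
    (e : G.obj (Over.mk (𝟙 U)) ⟶ x) (he : 𝒳.p.IsHomLift (𝟙 U) e) (φ : y ⟶ x) (hφ : 𝒳.p.IsHomLift a.hom φ) :
    ∃ i : y ≅ G.obj a, 𝒳.p.IsHomLift (𝟙 a.left) i.hom := by
  have : 𝒳.p.IsHomLift a.hom (G.map (toId a)) := overMap_isHomLift G (toId a)
  have : 𝒳.p.IsHomLift a.hom (G.map (toId a) ≫ e) := IsHomLift.comp_lift_id_right' 𝒳.p a.hom _ U e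
  obtain ⟨i, hi, -⟩ := exists_iso_of_lifts (hp := h) a.hom (G.map (toId a) ≫ e) φ
  exact ⟨i, hi⟩

/-- Morphisms agreeing after pullback along the arrows of a sieve for which gluing is unique are equal. -/
lemma hom_ext_of_prestackFor (h : FibCat.IsFibGrpd 𝒳.p) {U : C} {R : Sieve U}
    (hR : (Stk.resSieve R 𝒳).Faithful) {x x' : 𝒳.obj} (φ φ' : x ⟶ x') (hφ : 𝒳.p.IsHomLift (𝟙 U) φ)
    (hφ' : 𝒳.p.IsHomLift (𝟙 U) φ')
    (H : ∀ ⦃V : C⦄ (f : V ⟶ U), R f → ∃ (y : 𝒳.obj) (ψ : y ⟶ x), 𝒳.p.IsHomLift f ψ ∧ ψ ≫ φ = ψ ≫ φ') :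
    φ = φ' := by
  obtain ⟨G, e, he⟩ := exists_ofObj h x (IsHomLift.domain_eq 𝒳.p (𝟙 U) φ)
  obtain ⟨G', e', he'⟩ := exists_ofObj h x' (IsHomLift.codomain_eq 𝒳.p (𝟙 U) φ)
  have hp := preserves_of_isFibGrpd h G'
  have hinv := IsHomLift.lift_id_inv 𝒳.p U e'
  let t : G.obj (Over.mk (𝟙 U)) ⟶ G'.obj (Over.mk (𝟙 U)) := e.hom ≫ φ ≫ e'.inv
  let t' : G.obj (Over.mk (𝟙 U)) ⟶ G'.obj (Over.mk (𝟙 U)) := e.hom ≫ φ' ≫ e'.inv
  have ht : 𝒳.p.IsHomLift (𝟙 U) t := inferInstanceAs (𝒳.p.IsHomLift (𝟙 U) (e.hom ≫ φ ≫ e'.inv))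
  have ht' : 𝒳.p.IsHomLift (𝟙 U) t' := inferInstanceAs (𝒳.p.IsHomLift (𝟙 U) (e.hom ≫ φ' ≫ e'.inv))
  have key : homOfEval hp t ht = homOfEval hp t' ht' := by
    refine hR.map_injective (hext fun a => ?_)
    show (homOfEval hp t ht).toNatTrans.app a.obj = (homOfEval hp t' ht').toNatTrans.app a.obj
    obtain ⟨y, ψ, hψ, hc⟩ := H a.obj.hom a.property
    have hu : 𝒳.p.IsHomLift a.obj.hom (G.map (toId a.obj)) := overMap_isHomLift G (toId a.obj)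
    have hu' : 𝒳.p.IsHomLift a.obj.hom (G'.map (toId a.obj)) := overMap_isHomLift G' (toId a.obj)
    have : 𝒳.p.IsHomLift a.obj.hom (G.map (toId a.obj) ≫ e.hom) :=
      IsHomLift.comp_lift_id_right' 𝒳.p a.obj.hom _ U e.hom
    obtain ⟨i, -, hi⟩ := exists_iso_of_lifts (hp := h) a.obj.hom ψ (G.map (toId a.obj) ≫ e.hom)
    have hα : 𝒳.p.IsHomLift (𝟙 a.obj.left) ((homOfEval hp t ht).toNatTrans.app a.obj) :=
      BasedNatTrans.isHomLift _ rfl
    have hβ : 𝒳.p.IsHomLift (𝟙 a.obj.left) ((homOfEval hp t' ht').toNatTrans.app a.obj) :=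
      BasedNatTrans.isHomLift _ rfl
    have := isSC (hp := h) a.obj.hom (G'.map (toId a.obj))
    refine IsStronglyCartesian.ext 𝒳.p a.obj.hom (G'.map (toId a.obj)) (𝟙 a.obj.left) ?_
    rw [← BasedNatTrans.toNatTrans (homOfEval hp t ht) |>.naturality,
      ← BasedNatTrans.toNatTrans (homOfEval hp t' ht') |>.naturality, homOfEval_app, homOfEval_app]
    show G.map (toId a.obj) ≫ e.hom ≫ φ ≫ e'.inv = G.map (toId a.obj) ≫ e.hom ≫ φ' ≫ e'.inv
    rw [← reassoc_of% hi, ← reassoc_of% hi, reassoc_of% hc]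
  have h2 : t = t' := by rw [← homOfEval_app hp t ht, ← homOfEval_app hp t' ht', key]
  simpa [t, t'] using h2

/-- Functors out of a slice whose restrictions to a sieve are isomorphic have isomorphic values at the identity. -/
lemma exists_iso_of_resSieve {U : C} {R : Sieve U} (hR : Stk.IsPrestackFor R 𝒳) (G H : FibCat.overCat U ⥤ᵇ 𝒳)
    (i : (Stk.resSieve R 𝒳).obj G ≅ (Stk.resSieve R 𝒳).obj H) :
    Nonempty (G ≅ H) := by
  obtain ⟨_, _⟩ := hR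
  exact ⟨(Stk.resSieve R 𝒳).preimageIso i⟩

end Groth.Agent.StkLib
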