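import Groth.Agent.StkLib.Sieves
import Mathlib.CategoryTheory.Limits.Shapes.Pullback.Categorical.Basic
import Mathlib.CategoryTheory.Limits.Preserves.Shapes.Pullbacks
import Mathlib.CategoryTheory.Sites.CoverPreserving

/-!
# Inverse image of a stack along a continuous functor
-/

set_option autoImplicit false
set_option backward.isDefEq.respectTransparency false
set_option backward.isDefEq.respectTransparency.types false

universe v₄ u₄ v₃ u₃ v₂ u₂ v u

open CategoryTheory CategoryTheory.Functor CategoryTheory.Limits Groth.Agent.FibBase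

namespace Groth.Agent.StkLib

variable {C : Type u} [Category.{v} C] {D : Type u₂} [Category.{v₂} D] (u : C ⥤ D)
  {𝒮 : BasedCategory.{v₃, u₃} D}

/-- A category over `C` as a category over `D`. -/
abbrev belowD (𝒜 : BasedCategory.{v₄, u₄} C) : BasedCategory.{v₄, u₄} D :=
  BasedCategory.ofFunctor (𝒜.p ⋙ u)

/-- A functor over `C` as a functor over `D`. -/
abbrev belowDMap {𝒜 ℬ : BasedCategory.{v₄, u₄} C} (ι : 𝒜 ⥤ᵇ ℬ) : belowD u 𝒜 ⥤ᵇ belowD u ℬ :=
  ⟨ι.toFunctor, congrArg (· ⋙ u) ι.w⟩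

variable {U : C} (R : Sieve U)

/-- An arrow of a sieve, mapped into the image sieve. -/
abbrev imageMap : belowD u (Stk.sieveCat R) ⥤ᵇ Stk.sieveCat (R.functorPushforward u) :=
  ⟨ObjectProperty.lift _ (ObjectProperty.ι _ ⋙ Over.post u)
    (fun a => (⟨_, a.obj.hom, 𝟙 _, a.property, (Category.id_comp _).symm⟩ :
      (R.functorPushforward u) (u.map a.obj.hom))), rfl⟩

/-- A factorisation of an arrow through the image of a sieve. -/
structure Fac {W : D} (h : W ⟶ u.obj U) where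
  /-- the arrow of the sieve -/
  a : (Stk.sieveCat R).obj
  /-- the factorisation -/
  g : W ⟶ u.obj a.obj.left
  w : g ≫ u.map a.obj.hom = h

variable {u R}

/-- A natural family of morphisms towards the values of a functor at all factorisations. -/
def IsFam (H : belowD u (Stk.sieveCat R) ⥤ᵇ 𝒮) {W' W : D} (k : W' ⟶ W) (h : W ⟶ u.obj U) {x : 𝒮.obj}
    (Λ : ∀ φ : Fac u R h, x ⟶ H.obj φ.a) : Prop :=
  (∀ φ : Fac u R h, 𝒮.p.IsHomLift (k ≫ φ.g) (Λ φ)) ∧
    ∀ (φ ψ : Fac u R h) (m : φ.a ⟶ ψ.a), φ.g ≫ u.map m.hom.left = ψ.g → Λ φ ≫ H.map m = Λ ψ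

lemma H_lift (H : belowD u (Stk.sieveCat R) ⥤ᵇ 𝒮) {a b : (Stk.sieveCat R).obj} (m : a ⟶ b) :
    𝒮.p.IsHomLift (u.map m.hom.left) (H.map m) :=
  haveI : (belowD u (Stk.sieveCat R)).p.IsHomLift (u.map m.hom.left) m := IsHomLift.map (belowD u (Stk.sieveCat R)).p m
  H.preserves_isHomLift (u.map m.hom.left) m

variable [HasPullbacks C] [PreservesLimitsOfShape WalkingCospan u]

lemma exists_common {W : D} {h : W ⟶ u.obj U} (φ ψ : Fac u R h) :
    ∃ (χ : Fac u R h) (m : χ.a ⟶ φ.a) (n : χ.a ⟶ ψ.a), χ.g ≫ u.map m.hom.left = φ.g ∧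
      χ.g ≫ u.map n.hom.left = ψ.g ∧
      ∀ (χ' : Fac u R h) (m' : χ'.a ⟶ φ.a) (n' : χ'.a ⟶ ψ.a), χ'.g ≫ u.map m'.hom.left = φ.g →
        χ'.g ≫ u.map n'.hom.left = ψ.g → ∃ l : χ'.a ⟶ χ.a, χ'.g ≫ u.map l.hom.left = χ.g ∧ l ≫ m = m' ∧ l ≫ n = n' := by
  have sq := IsPullback.of_hasPullback φ.a.obj.hom ψ.a.obj.hom
  have sqD := sq.map u
  let g := sqD.lift φ.g ψ.g (φ.w.trans ψ.w.symm)
  let a : (Stk.sieveCat R).obj := ⟨Over.mk (pullback.fst φ.a.obj.hom ψ.a.obj.hom ≫ φ.a.obj.hom),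
    R.downward_closed φ.a.property _⟩
  refine ⟨⟨a, g, ?_⟩, ObjectProperty.homMk (Over.homMk (pullback.fst φ.a.obj.hom ψ.a.obj.hom)),
    ObjectProperty.homMk (Over.homMk (pullback.snd φ.a.obj.hom ψ.a.obj.hom) sq.w.symm),
    sqD.lift_fst _ _ _, sqD.lift_snd _ _ _, fun χ' m' n' hm hn => ?_⟩
  · show g ≫ u.map (pullback.fst φ.a.obj.hom ψ.a.obj.hom ≫ φ.a.obj.hom) = h
    rw [u.map_comp, ← Category.assoc, sqD.lift_fst]
    exact φ.w
  · refine ⟨ObjectProperty.homMk (Over.homMk (sq.lift m'.hom.left n'.hom.left ((Over.w m'.hom).trans (Over.w n'.hom).symm))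
      (by
        show _ ≫ pullback.fst φ.a.obj.hom ψ.a.obj.hom ≫ φ.a.obj.hom = χ'.a.obj.hom
        rw [sq.lift_fst_assoc]
        exact Over.w m'.hom)), ?_, ?_, ?_⟩
    · refine sqD.hom_ext ?_ ?_
      · show (χ'.g ≫ u.map (sq.lift _ _ _)) ≫ u.map _ = g ≫ u.map _
        rw [Category.assoc, ← u.map_comp, sq.lift_fst, sqD.lift_fst]
        exact hm
      · show (χ'.g ≫ u.map (sq.lift _ _ _)) ≫ u.map _ = g ≫ u.map _
        rw [Category.assoc, ← u.map_comp, sq.lift_snd, sqD.lift_snd]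
        exact hn
    · exact ObjectProperty.hom_ext _ (Over.OverMorphism.ext (sq.lift_fst _ _ _))
    · exact ObjectProperty.hom_ext _ (Over.OverMorphism.ext (sq.lift_snd _ _ _))

variable (h𝒮 : FibCat.IsFibGrpd 𝒮.p) {H : belowD u (Stk.sieveCat R) ⥤ᵇ 𝒮}
include h𝒮

lemma fam_eq {W' W : D} {k : W' ⟶ W} {h : W ⟶ u.obj U} {x : 𝒮.obj} {Λ M : ∀ φ : Fac u R h, x ⟶ H.obj φ.a}
    (hΛ : IsFam H k h Λ) (hM : IsFam H k h M) (φ : Fac u R h) (e : Λ φ = M φ) (ψ : Fac u R h) : Λ ψ = M ψ := by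
  obtain ⟨χ, m, n, hm, hn, -⟩ := exists_common φ ψ
  rw [← hΛ.2 χ ψ n hn, ← hM.2 χ ψ n hn]
  congr 1
  have := H_lift H m
  have := isSC (hp := h𝒮) (u.map m.hom.left) (H.map m)
  have := hΛ.1 χ
  have := hM.1 χ
  refine IsStronglyCartesian.ext 𝒮.p (u.map m.hom.left) (H.map m) (k ≫ χ.g) ?_
  rw [hΛ.2 χ φ m hm, hM.2 χ φ m hm, e]

lemma exists_fam {W : D} {h : W ⟶ u.obj U} (φ : Fac u R h) :
    ∃ (x : 𝒮.obj) (Λ : ∀ ψ : Fac u R h, x ⟶ H.obj ψ.a), 𝒮.p.obj x = W ∧ IsFam H (𝟙 W) h Λ := by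
  obtain ⟨x, l, hl⟩ := exists_lift_of_eq h𝒮 (H.w_obj φ.a) φ.g
  choose χ m n hm hn huniv using fun ψ : Fac u R h => exists_common φ ψ
  have key : ∀ ψ, ∃ μ : x ⟶ H.obj (χ ψ).a, 𝒮.p.IsHomLift (χ ψ).g μ ∧ μ ≫ H.map (m ψ) = l := fun ψ => by
    have := H_lift H (m ψ)
    have := isSC (hp := h𝒮) (u.map (m ψ).hom.left) (H.map (m ψ))
    exact ⟨IsStronglyCartesian.map 𝒮.p (u.map (m ψ).hom.left) (H.map (m ψ)) (hm ψ).symm l, inferInstance,
      IsStronglyCartesian.fac 𝒮.p _ _ _ _⟩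
  choose μ hμ hμl using key
  have hΛ : ∀ ψ : Fac u R h, 𝒮.p.IsHomLift ψ.g (μ ψ ≫ H.map (n ψ)) := fun ψ => by
    have := hμ ψ
    have := H_lift H (n ψ)
    rw [← hn ψ]
    infer_instance
  refine ⟨x, fun ψ => μ ψ ≫ H.map (n ψ), IsHomLift.domain_eq 𝒮.p φ.g l, fun ψ => by rw [Category.id_comp]; exact hΛ ψ,
    fun ψ ψ' t ht => ?_⟩
  obtain ⟨j, hj, hjm, hjn⟩ := huniv ψ' (χ ψ) (m ψ) (n ψ ≫ t) (hm ψ) (by
    show (χ ψ).g ≫ u.map ((n ψ).hom.left ≫ t.hom.left) = ψ'.g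
    rw [u.map_comp, ← Category.assoc, hn ψ, ht])
  have e : μ ψ ≫ H.map j = μ ψ' := by
    have := hμ ψ
    have := hμ ψ'
    have := H_lift H j
    have : 𝒮.p.IsHomLift (χ ψ').g (μ ψ ≫ H.map j) := by rw [← hj]; infer_instance
    have := H_lift H (m ψ')
    have := isSC (hp := h𝒮) (u.map (m ψ').hom.left) (H.map (m ψ'))
    refine IsStronglyCartesian.ext 𝒮.p (u.map (m ψ').hom.left) (H.map (m ψ')) (χ ψ').g ?_
    rw [Category.assoc, ← H.toFunctor.map_comp, hjm, hμl, hμl]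
  show (μ ψ ≫ H.map (n ψ)) ≫ H.map t = μ ψ' ≫ H.map (n ψ')
  rw [← e, Category.assoc, Category.assoc, ← H.toFunctor.map_comp, ← H.toFunctor.map_comp, hjn]

omit h𝒮

/-- A factorisation precomposed. -/
abbrev shift {W' W : D} {h : W ⟶ u.obj U} {h' : W' ⟶ u.obj U} (k : W' ⟶ W) (hk : k ≫ h = h') (φ : Fac u R h) :
    Fac u R h' :=
  ⟨φ.a, k ≫ φ.g, by rw [Category.assoc, φ.w, hk]⟩

lemma fam_congr {W : D} {h : W ⟶ u.obj U} {x : 𝒮.obj} (Λ : ∀ φ : Fac u R h, x ⟶ H.obj φ.a)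
    (a : (Stk.sieveCat R).obj) {g g' : W ⟶ u.obj a.obj.left} (e : g = g') (w : g ≫ u.map a.obj.hom = h)
    (w' : g' ≫ u.map a.obj.hom = h) : Λ ⟨a, g, w⟩ = Λ ⟨a, g', w'⟩ := by
  subst e; rfl

lemma fam_shift {W' W : D} {h : W ⟶ u.obj U} {h' : W' ⟶ u.obj U} (k : W' ⟶ W) (hk : k ≫ h = h') {x : 𝒮.obj}
    {Λ : ∀ φ : Fac u R h', x ⟶ H.obj φ.a} (hΛ : IsFam H (𝟙 W') h' Λ) :
    IsFam H k h (fun φ => Λ (shift k hk φ)) :=
  ⟨fun φ => by have := hΛ.1 (shift k hk φ); rwa [Category.id_comp] at this,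
    fun φ ψ m e => hΛ.2 (shift k hk φ) (shift k hk ψ) m (by show (k ≫ φ.g) ≫ _ = k ≫ ψ.g; rw [Category.assoc, e])⟩

lemma fam_comp {W' W : D} {h : W ⟶ u.obj U} (k : W' ⟶ W) {x' x : 𝒮.obj} (χ : x' ⟶ x) [𝒮.p.IsHomLift k χ]
    {Λ : ∀ φ : Fac u R h, x ⟶ H.obj φ.a} (hΛ : IsFam H (𝟙 W) h Λ) :
    IsFam H k h (fun φ => χ ≫ Λ φ) :=
  ⟨fun φ => by
      have := hΛ.1 φ
      rw [Category.id_comp] at this
      exact inferInstanceAs (𝒮.p.IsHomLift (k ≫ φ.g) (χ ≫ Λ φ)),
    fun φ ψ m e => by rw [Category.assoc, hΛ.2 φ ψ m e]⟩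

omit [HasPullbacks C] [PreservesLimitsOfShape WalkingCospan u] in
variable (u R) in
lemma exists_fac (b : (Stk.sieveCat (R.functorPushforward u)).obj) : Nonempty (Fac u R b.obj.hom) := by
  obtain ⟨V, f, g, hf, e⟩ := b.property
  exact ⟨⟨⟨Over.mk f, hf⟩, g, e.symm⟩⟩

/-- The tautological factorisation. -/
abbrev idFac (a : (Stk.sieveCat R).obj) : Fac u R ((imageMap u R).obj a).obj.hom :=
  ⟨a, 𝟙 _, Category.id_comp _⟩

/-- The arrow attached to a factorisation. -/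
abbrev facMap {b : (Stk.sieveCat (R.functorPushforward u)).obj} (φ : Fac u R b.obj.hom) :
    b ⟶ (imageMap u R).obj φ.a :=
  ObjectProperty.homMk (Over.homMk φ.g φ.w)

omit [HasPullbacks C] [PreservesLimitsOfShape WalkingCospan u] in
lemma map_lift (G : Stk.sieveCat (R.functorPushforward u) ⥤ᵇ 𝒮) {b b' : (Stk.sieveCat (R.functorPushforward u)).obj}
    (m : b ⟶ b') : 𝒮.p.IsHomLift m.hom.left (G.map m) :=
  haveI : (Stk.sieveCat (R.functorPushforward u)).p.IsHomLift m.hom.left m :=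
    IsHomLift.map (Stk.sieveCat (R.functorPushforward u)).p m
  G.preserves_isHomLift m.hom.left m

include h𝒮

theorem imageMap_essSurj : (Stk.restr (imageMap u R) 𝒮).EssSurj := by
  refine ⟨fun H => ?_⟩
  let φ0 : ∀ b : (Stk.sieveCat (R.functorPushforward u)).obj, Fac u R b.obj.hom := fun b => (exists_fac u R b).some
  choose x Λ hx hΛ using fun b : (Stk.sieveCat (R.functorPushforward u)).obj =>
    exists_fam (H := H) h𝒮 (φ0 b)
  have key : ∀ {b' b : (Stk.sieveCat (R.functorPushforward u)).obj} (k : b' ⟶ b),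
      ∃ χ : x b' ⟶ x b, 𝒮.p.IsHomLift k.hom.left χ ∧
        ∀ φ, χ ≫ Λ b φ = Λ b' (shift k.hom.left (Over.w k.hom) φ) := by
    intro b' b k
    have h1 := (hΛ b).1 (φ0 b)
    rw [Category.id_comp] at h1
    have h2 := (hΛ b').1 (shift k.hom.left (Over.w k.hom) (φ0 b))
    rw [Category.id_comp] at h2
    have := isSC (hp := h𝒮) (φ0 b).g (Λ b (φ0 b))
    let χ := IsStronglyCartesian.map 𝒮.p (φ0 b).g (Λ b (φ0 b)) (g := k.hom.left) (f' := k.hom.left ≫ (φ0 b).g)
      rfl (Λ b' (shift k.hom.left (Over.w k.hom) (φ0 b)))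
    refine ⟨χ, inferInstance, fam_eq h𝒮 (fam_comp k.hom.left χ (hΛ b)) (fam_shift k.hom.left (Over.w k.hom) (hΛ b'))
      (φ0 b) ?_⟩
    exact IsStronglyCartesian.fac 𝒮.p _ _ _ _
  choose map hmap hfac using @key
  have ext' : ∀ {b' b : (Stk.sieveCat (R.functorPushforward u)).obj} (k : b'.obj.left ⟶ b.obj.left) (χ χ' : x b' ⟶ x b)
      [𝒮.p.IsHomLift k χ] [𝒮.p.IsHomLift k χ'], χ ≫ Λ b (φ0 b) = χ' ≫ Λ b (φ0 b) → χ = χ' := by
    intro b' b k χ χ' _ _ e
    have h1 := (hΛ b).1 (φ0 b)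
    rw [Category.id_comp] at h1
    have := isSC (hp := h𝒮) (φ0 b).g (Λ b (φ0 b))
    exact IsStronglyCartesian.ext 𝒮.p (φ0 b).g (Λ b (φ0 b)) k e
  let K₀ : (Stk.sieveCat (R.functorPushforward u)).obj ⥤ 𝒮.obj :=
    { obj := x
      map := fun {b' b} k => map k
      map_id := fun b => by
        haveI : 𝒮.p.IsHomLift (𝟙 b.obj.left) (map (𝟙 b)) := hmap (𝟙 b)
        haveI : 𝒮.p.IsHomLift (𝟙 b.obj.left) (𝟙 (x b)) := IsHomLift.id (hx b)
        refine ext' (𝟙 b.obj.left) _ _ ?_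
        rw [hfac, Category.id_comp]
        exact fam_congr (Λ b) _ (Category.id_comp _) _ _
      map_comp := fun {b'' b' b} k' k => by
        haveI := hmap k
        haveI := hmap k'
        haveI : 𝒮.p.IsHomLift (k'.hom.left ≫ k.hom.left) (map (k' ≫ k)) := hmap (k' ≫ k)
        refine ext' (k'.hom.left ≫ k.hom.left) _ _ ?_
        rw [hfac, Category.assoc, hfac, hfac]
        exact fam_congr (Λ b'') _ (Category.assoc _ _ _) _ _ }
  let K : Stk.sieveCat (R.functorPushforward u) ⥤ᵇ 𝒮 :=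
    ⟨K₀, CategoryTheory.Functor.ext hx fun b' b k => by
      have := hmap k
      exact IsHomLift.fac' 𝒮.p k.hom.left (map k)⟩
  have hη : ∀ a, 𝒮.p.IsHomLift (𝟙 (u.obj a.obj.left)) (Λ ((imageMap u R).obj a) (idFac a)) := fun a => by
    have := (hΛ ((imageMap u R).obj a)).1 (idFac a)
    rw [Category.id_comp] at this
    exact this
  haveI : ∀ a, IsIso (Λ ((imageMap u R).obj a) (idFac a)) := fun a =>
    haveI := hη a
    isIso_of_lift (hp := h𝒮) (𝟙 (u.obj a.obj.left)) (Λ ((imageMap u R).obj a) (idFac a))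
  refine ⟨K, ⟨BasedNatIso.mkNatIso (NatIso.ofComponents (fun a => asIso (Λ ((imageMap u R).obj a) (idFac a))) ?_)
    hη⟩⟩
  intro a' a m
  show map ((imageMap u R).map m) ≫ Λ _ (idFac a) = Λ _ (idFac a') ≫ H.map m
  rw [hfac]
  refine ((hΛ _).2 (idFac a') (shift ((imageMap u R).map m).hom.left (Over.w ((imageMap u R).map m).hom) (idFac a)) m ?_).symm
  show 𝟙 _ ≫ u.map m.hom.left = u.map m.hom.left ≫ 𝟙 _
  simp

theorem imageMap_full : (Stk.restr (imageMap u R) 𝒮).Full := by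
  refine ⟨fun {G G'} γ => ?_⟩
  let φ0 : ∀ b : (Stk.sieveCat (R.functorPushforward u)).obj, Fac u R b.obj.hom := fun b => (exists_fac u R b).some
  have fam' : ∀ (G : Stk.sieveCat (R.functorPushforward u) ⥤ᵇ 𝒮) (b : (Stk.sieveCat (R.functorPushforward u)).obj),
      IsFam (BasedFunctor.comp (imageMap u R) G) (𝟙 _) b.obj.hom (fun φ => G.map (facMap φ)) := by
    intro G b
    refine ⟨fun φ => by rw [Category.id_comp]; exact map_lift G (facMap φ), fun φ ψ m e => ?_⟩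
    show G.map (facMap φ) ≫ G.map ((imageMap u R).map m) = G.map (facMap ψ)
    rw [← G.toFunctor.map_comp]
    exact congrArg G.map (ObjectProperty.hom_ext _ (Over.OverMorphism.ext e))
  have famM : ∀ b : (Stk.sieveCat (R.functorPushforward u)).obj, IsFam (BasedFunctor.comp (imageMap u R) G') (𝟙 _) b.obj.hom
      (fun φ => G.map (facMap φ) ≫ γ.toNatTrans.app φ.a) := by
    intro b
    refine ⟨fun φ => ?_, fun φ ψ m e => ?_⟩
    · have hg : 𝒮.p.IsHomLift φ.g (G.map (facMap φ)) := map_lift G (facMap φ)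
      have : 𝒮.p.IsHomLift (𝟙 (u.obj φ.a.obj.left)) (γ.toNatTrans.app φ.a) := γ.isHomLift' φ.a
      rw [Category.id_comp]
      exact IsHomLift.comp_lift_id_right' 𝒮.p φ.g (G.map (facMap φ)) (u.obj φ.a.obj.left) (γ.toNatTrans.app φ.a)
    · show (G.map (facMap φ) ≫ γ.toNatTrans.app φ.a) ≫ ((Stk.restr (imageMap u R) 𝒮).obj G').map m = _
      rw [Category.assoc, ← γ.toNatTrans.naturality m, ← Category.assoc]
      exact congrArg (· ≫ _) ((fam' G b).2 φ ψ m e)
  have key : ∀ b : (Stk.sieveCat (R.functorPushforward u)).obj, ∃ η : G.obj b ⟶ G'.obj b, 𝒮.p.IsHomLift (𝟙 b.obj.left) η ∧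
      ∀ φ : Fac u R b.obj.hom, η ≫ G'.map (facMap φ) = G.map (facMap φ) ≫ γ.toNatTrans.app φ.a := by
    intro b
    have h1 : 𝒮.p.IsHomLift (φ0 b).g (G'.map (facMap (φ0 b))) := map_lift G' (facMap (φ0 b))
    have h2 := (famM b).1 (φ0 b)
    rw [Category.id_comp] at h2
    have := isSC (hp := h𝒮) (φ0 b).g (G'.map (facMap (φ0 b)))
    let η := IsCartesian.map 𝒮.p (φ0 b).g (G'.map (facMap (φ0 b))) (G.map (facMap (φ0 b)) ≫ γ.toNatTrans.app (φ0 b).a)
    exact ⟨η, inferInstance, fam_eq h𝒮 (fam_comp (𝟙 b.obj.left) η (fam' G' b)) (famM b) (φ0 b) (IsCartesian.fac _ _ _ _)⟩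
  choose η hη hfac using key
  refine ⟨{ toNatTrans := { app := η, naturality := fun b' b k => ?_ }, isHomLift' := hη }, hext fun a => ?_⟩
  · have hG := map_lift G k
    have hG' := map_lift G' k
    have := hη b
    have := hη b'
    have h1 : 𝒮.p.IsHomLift (φ0 b).g (G'.map (facMap (φ0 b))) := map_lift G' (facMap (φ0 b))
    have := isSC (hp := h𝒮) (φ0 b).g (G'.map (facMap (φ0 b)))
    haveI : 𝒮.p.IsHomLift k.hom.left (G.map k ≫ η b) :=
      IsHomLift.comp_lift_id_right' 𝒮.p k.hom.left (G.map k) b.obj.left (η b)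
    haveI : 𝒮.p.IsHomLift k.hom.left (η b' ≫ G'.map k) :=
      IsHomLift.comp_lift_id_left' 𝒮.p b'.obj.left (η b') k.hom.left (G'.map k)
    refine IsStronglyCartesian.ext 𝒮.p (φ0 b).g (G'.map (facMap (φ0 b))) k.hom.left ?_
    rw [Category.assoc, hfac, Category.assoc, ← G'.toFunctor.map_comp, ← G.toFunctor.map_comp_assoc]
    exact (hfac b' (shift k.hom.left (Over.w k.hom) (φ0 b))).symm
  · have := hfac ((imageMap u R).obj a) (idFac a)
    have e : facMap (idFac a) = 𝟙 ((imageMap u R).obj a) := ObjectProperty.hom_ext _ (Over.OverMorphism.ext rfl)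
    rw [e, G.toFunctor.map_id, G'.toFunctor.map_id] at this
    exact (Category.comp_id _).symm.trans (this.trans (Category.id_comp _))

omit [HasPullbacks C] [PreservesLimitsOfShape WalkingCospan u] in
theorem imageMap_faithful : (Stk.restr (imageMap u R) 𝒮).Faithful := by
  refine ⟨fun {G G'} α β e => hext fun b => ?_⟩
  obtain ⟨φ⟩ := exists_fac u R b
  have h1 : 𝒮.p.IsHomLift φ.g (G'.map (facMap φ)) := map_lift G' (facMap φ)
  have := isSC (hp := h𝒮) φ.g (G'.map (facMap φ))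
  have hα : 𝒮.p.IsHomLift (𝟙 b.obj.left) (α.toNatTrans.app b) := α.isHomLift' b
  have hβ : 𝒮.p.IsHomLift (𝟙 b.obj.left) (β.toNatTrans.app b) := β.isHomLift' b
  refine IsStronglyCartesian.ext 𝒮.p φ.g (G'.map (facMap φ)) (𝟙 b.obj.left) ?_
  rw [← α.toNatTrans.naturality, ← β.toNatTrans.naturality]
  exact congrArg (G.map (facMap φ) ≫ ·) (congrArg (fun s => s.toNatTrans.app φ.a) e)

theorem imageMap_isEquivalence : (Stk.restr (imageMap u R) 𝒮).IsEquivalence where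
  faithful := imageMap_faithful h𝒮
  full := imageMap_full h𝒮
  essSurj := imageMap_essSurj h𝒮

variable (u) (R)

theorem belowIncl_isEquivalence (hR : Stk.IsStackFor (R.functorPushforward u) 𝒮) :
    (Stk.restr (belowDMap u (Stk.sieveIncl R)) 𝒮).IsEquivalence := by
  let P : belowD u (FibCat.overCat U) ⥤ᵇ FibCat.overCat (u.obj U) := ⟨Over.post u, rfl⟩
  have sq : ∀ (R : Sieve U), Stk.restr P 𝒮 ⋙ Stk.restr (belowDMap u (Stk.sieveIncl R)) 𝒮 ≅
      Stk.resSieve (R.functorPushforward u) 𝒮 ⋙ Stk.restr (imageMap u R) 𝒮 := fun R =>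
    NatIso.ofComponents (fun _ => Iso.refl _)
      (fun _ => hext fun _ => (Category.comp_id _).trans (Category.id_comp _).symm)
  have htop : ∀ {E : Type max u v} [Category.{v} E] (p : E ⥤ D) (Q : ObjectProperty E) (hQ : ∀ a, Q a)
      (i : BasedCategory.ofFunctor (Q.ι ⋙ p) ⥤ᵇ BasedCategory.ofFunctor p), i.toFunctor = Q.ι → FibCat.IsEquivOver i := by
    intro E _ p Q hQ i hi
    obtain ⟨i, hw⟩ := i
    subst hi
    exact isEquivOver_of_exists_iso _ (inferInstanceAs Q.ι.Full) (inferInstanceAs Q.ι.Faithful)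
      fun η => ⟨⟨η, hQ η⟩, Iso.refl _, IsHomLift.id rfl⟩
  haveI : (Stk.restr (belowDMap u (Stk.sieveIncl (⊤ : Sieve U))) 𝒮).IsEquivalence :=
    restr_isEquivalence (htop (Over.forget U ⋙ u) (fun a => (⊤ : Sieve U) a.hom) (fun _ => trivial)
      (belowDMap u (Stk.sieveIncl ⊤)) rfl)
  haveI : (Stk.resSieve ((⊤ : Sieve U).functorPushforward u) 𝒮).IsEquivalence := by
    refine restr_isEquivalence (isEquivOver_of_exists_iso _ (inferInstanceAs (ObjectProperty.ι _).Full)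
      (inferInstanceAs (ObjectProperty.ι _).Faithful) fun η => ⟨⟨η, ?_⟩, Iso.refl _, IsHomLift.id rfl⟩)
    show ((⊤ : Sieve U).functorPushforward u) η.hom
    rw [Sieve.functorPushforward_top]; trivial
  haveI := imageMap_isEquivalence (u := u) (R := (⊤ : Sieve U)) h𝒮
  haveI : (Stk.restr P 𝒮).IsEquivalence := by
    haveI : (Stk.restr P 𝒮 ⋙ Stk.restr (belowDMap u (Stk.sieveIncl (⊤ : Sieve U))) 𝒮).IsEquivalence :=
      Functor.isEquivalence_of_iso (sq ⊤).symm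
    exact Functor.isEquivalence_of_comp_right (Stk.restr P 𝒮) (Stk.restr (belowDMap u (Stk.sieveIncl (⊤ : Sieve U))) 𝒮)
  haveI := imageMap_isEquivalence (u := u) (R := R) h𝒮
  exact (isEquivalence_square (sq R).symm).mp hR

omit h𝒮

section ToPullback

variable (𝒮) {𝒜 : BasedCategory.{v₄, u₄} C}

/-- The inverse image of a category over `D`. -/
abbrev pbCat := BasedCategory.ofFunctor (CategoricalPullback.π₁ u 𝒮.p)

omit [HasPullbacks C] [PreservesLimitsOfShape WalkingCospan u] in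
lemma pb_lift {x y : CategoricalPullback u 𝒮.p} {S : C} (hx : x.fst = S) (hy : y.fst = S) (f : x ⟶ y)
    (h : f.fst = eqToHom (hx.trans hy.symm)) : (pbCat u 𝒮).p.IsHomLift (𝟙 S) f :=
  isHomLift_id_of_map_eq (p := CategoricalPullback.π₁ u 𝒮.p) hx hy h

omit [HasPullbacks C] [PreservesLimitsOfShape WalkingCospan u] in
variable (𝒜) in
/-- A functor over `D` gives a functor into the inverse image. -/
def toPb : (belowD u 𝒜 ⥤ᵇ 𝒮) ⥤ (𝒜 ⥤ᵇ pbCat u 𝒮) where
  obj K :=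
    { toFunctor :=
        { obj := fun a => { fst := 𝒜.p.obj a, snd := K.obj a, iso := eqToIso (K.w_obj a).symm }
          map := fun {a b} g =>
            { fst := 𝒜.p.map g
              snd := K.map g
              w := by
                rw [eqToIso.hom, eqToIso.hom, w_map K g]
                simp
                rfl }
          map_id := fun a => CategoricalPullback.hom_ext (𝒜.p.map_id a) (K.toFunctor.map_id a)
          map_comp := fun g g' => CategoricalPullback.hom_ext (𝒜.p.map_comp g g') (K.toFunctor.map_comp g g') }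
      w := rfl }
  map {K K'} α :=
    { toNatTrans :=
        { app := fun a =>
            { fst := 𝟙 _
              snd := α.toNatTrans.app a
              w := by
                show u.map (𝟙 _) ≫ eqToHom (K'.w_obj a).symm = eqToHom (K.w_obj a).symm ≫ 𝒮.p.map (α.toNatTrans.app a)
                rw [map_eq_of_isHomLift_id (p := 𝒮.p) (α.isHomLift' a)]
                simp }
          naturality := fun a b g => CategoricalPullback.hom_ext ((Category.comp_id _).trans (Category.id_comp _).symm)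
            (α.toNatTrans.naturality g) }
      isHomLift' := fun a => by apply pb_lift u 𝒮 (S := 𝒜.p.obj a) <;> rfl }
  map_id K := hext fun a => CategoricalPullback.hom_ext rfl rfl
  map_comp α β := hext fun a => CategoricalPullback.hom_ext (Category.comp_id _).symm rfl

omit [HasPullbacks C] [PreservesLimitsOfShape WalkingCospan u] in
lemma toPb_isEquivalence (h𝒮 : FibCat.IsFibGrpd 𝒮.p) : (toPb u 𝒮 𝒜).IsEquivalence where
  faithful := ⟨fun {K K'} α β h => hext fun a => congrArg (fun s => (s.toNatTrans.app a).snd) h⟩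
  full := ⟨fun {K K'} t => by
    have hf : ∀ a, (t.toNatTrans.app a).fst = 𝟙 (𝒜.p.obj a) := fun a =>
      (map_eq_of_isHomLift_id (p := (pbCat u 𝒮).p) (t.isHomLift' a)).trans rfl
    refine ⟨{ toNatTrans :=
                { app := fun a => (t.toNatTrans.app a).snd
                  naturality := fun a b g => congrArg CategoricalPullback.Hom.snd (t.toNatTrans.naturality g) }
              isHomLift' := fun a => isHomLift_id_of_map_eq (K.w_obj a) (K'.w_obj a) ?_ },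
      hext fun a => CategoricalPullback.hom_ext (hf a).symm rfl⟩
    have w : u.map (t.toNatTrans.app a).fst ≫ eqToHom (K'.w_obj a).symm =
        eqToHom (K.w_obj a).symm ≫ 𝒮.p.map (t.toNatTrans.app a).snd := (t.toNatTrans.app a).w
    rw [hf a] at w
    refine (cancel_epi (eqToHom (K.w_obj a).symm)).mp (w.symm.trans ?_)
    exact ((congrArg (· ≫ _) (u.map_id (𝒜.p.obj a))).trans (Category.id_comp _)).trans (eqToHom_trans _ _).symm⟩
  essSurj := ⟨fun H => by
    let e : ∀ a, u.obj (𝒜.p.obj a) ≅ 𝒮.p.obj (H.obj a).snd := fun a =>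
      eqToIso (congrArg u.obj (H.w_obj a).symm) ≪≫ (H.obj a).iso
    choose x l hl using fun a => h𝒮.exists_lift (e a).hom
    haveI : ∀ a, IsIso (l a) := fun a => haveI := hl a; isIso_of_lift (hp := h𝒮) (e a).hom (l a)
    have hx : ∀ a, 𝒮.p.obj (x a) = u.obj (𝒜.p.obj a) := fun a => IsHomLift.domain_eq 𝒮.p (e a).hom (l a)
    have hml : ∀ a, 𝒮.p.map (l a) = eqToHom (hx a) ≫ eqToHom (congrArg u.obj (H.w_obj a).symm) ≫ (H.obj a).iso.hom :=
      fun a => by rw [IsHomLift.fac' 𝒮.p (e a).hom (l a)]; simp [e]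
    let K₀ : 𝒜.obj ⥤ 𝒮.obj :=
      { obj := x
        map := fun {a b} g => l a ≫ (H.map g).snd ≫ inv (l b)
        map_id := fun a => by
          rw [H.toFunctor.map_id]
          show l a ≫ 𝟙 _ ≫ inv (l a) = 𝟙 _
          simp
        map_comp := fun {a b c} g g' => by
          rw [H.toFunctor.map_comp]
          show l a ≫ ((H.map g).snd ≫ (H.map g').snd) ≫ inv (l c) = _
          simp }
    let K : belowD u 𝒜 ⥤ᵇ 𝒮 := ⟨K₀, CategoryTheory.Functor.ext hx fun a b g => by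
      have hg : (H.map g).fst = eqToHom (H.w_obj a) ≫ 𝒜.p.map g ≫ eqToHom (H.w_obj b).symm := w_map H g
      have hw : (H.obj a).iso.hom ≫ 𝒮.p.map (H.map g).snd = u.map (H.map g).fst ≫ (H.obj b).iso.hom :=
        ((H.map g).w).symm
      show 𝒮.p.map (l a ≫ (H.map g).snd ≫ inv (l b)) = eqToHom (hx a) ≫ u.map (𝒜.p.map g) ≫ eqToHom (hx b).symm
      rw [← Category.assoc (l a), Functor.map_comp, Functor.map_inv, IsIso.comp_inv_eq, Functor.map_comp, hml, hml]
      simp [hw, hg, eqToHom_map]⟩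
    refine ⟨K, ⟨BasedNatIso.mkNatIso (NatIso.ofComponents (fun a => CategoricalPullback.mkIso
      (eqToIso (H.w_obj a).symm) (asIso (l a)) ?_) ?_) ?_⟩⟩
    · show u.map (eqToHom (H.w_obj a).symm) ≫ (H.obj a).iso.hom = eqToHom (hx a).symm ≫ 𝒮.p.map (l a)
      rw [hml, eqToHom_map]
      simp
    · intro a b g
      refine CategoricalPullback.hom_ext ?_ ?_
      · show 𝒜.p.map g ≫ eqToHom (H.w_obj b).symm = eqToHom (H.w_obj a).symm ≫ (H.map g).fst
        rw [show (H.map g).fst = _ from w_map H g]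
        simp
      · show (l a ≫ (H.map g).snd ≫ inv (l b)) ≫ l b = l a ≫ (H.map g).snd
        simp
    · exact fun a => pb_lift u 𝒮 rfl (H.w_obj a) _ rfl⟩

omit [HasPullbacks C] [PreservesLimitsOfShape WalkingCospan u] in
lemma pbCat_isFibGrpd (h𝒮 : FibCat.IsFibGrpd 𝒮.p) : FibCat.IsFibGrpd (CategoricalPullback.π₁ u 𝒮.p) where
  exists_lift := fun {a V} f => by
    obtain ⟨z, φ, hφ⟩ := h𝒮.exists_lift (u.map f ≫ a.iso.hom)
    let b : CategoricalPullback u 𝒮.p :=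
      { fst := V, snd := z, iso := eqToIso (IsHomLift.domain_eq 𝒮.p (u.map f ≫ a.iso.hom) φ).symm }
    let ψ : b ⟶ a := ⟨f, φ, by
      show u.map f ≫ a.iso.hom = eqToHom (IsHomLift.domain_eq 𝒮.p (u.map f ≫ a.iso.hom) φ).symm ≫ 𝒮.p.map φ
      rw [IsHomLift.fac' 𝒮.p (u.map f ≫ a.iso.hom) φ]
      simp⟩
    exact ⟨b, ψ, IsHomLift.map (CategoricalPullback.π₁ u 𝒮.p) ψ⟩
  isStronglyCartesian := fun {b a} φ =>
    { universal_property' := fun {c} g t ht => by
        have ht1 : t.fst = g ≫ φ.fst :=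
          (IsHomLift.fac' (CategoricalPullback.π₁ u 𝒮.p) (g ≫ (CategoricalPullback.π₁ u 𝒮.p).map φ) t).trans
            ((Category.id_comp _).trans (Category.comp_id _))
        have hsc := h𝒮.isStronglyCartesian φ.snd
        let gg : 𝒮.p.obj c.snd ⟶ 𝒮.p.obj b.snd := c.iso.inv ≫ u.map g ≫ b.iso.hom
        have hgg : 𝒮.p.map t.snd = gg ≫ 𝒮.p.map φ.snd := by
          have h1 : 𝒮.p.map t.snd = c.iso.inv ≫ u.map t.fst ≫ a.iso.hom := by rw [t.w, Iso.inv_hom_id_assoc]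
          simp [h1, gg, ht1]
        let χ := IsStronglyCartesian.map 𝒮.p (𝒮.p.map φ.snd) φ.snd (g := gg) (f' := 𝒮.p.map t.snd) hgg t.snd
        have hχ : 𝒮.p.map χ = gg := (IsHomLift.eq_of_isHomLift 𝒮.p gg χ).symm
        let m : c ⟶ b := ⟨g, χ, by rw [hχ]; simp [gg]⟩
        refine ⟨m, ⟨IsHomLift.map (CategoricalPullback.π₁ u 𝒮.p) m,
          CategoricalPullback.hom_ext ht1.symm (IsStronglyCartesian.fac 𝒮.p (𝒮.p.map φ.snd) φ.snd (g := gg) (f' := 𝒮.p.map t.snd) hgg t.snd)⟩, ?_⟩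
        rintro n ⟨hn, hn'⟩
        have h1 : n.fst = g := (IsHomLift.eq_of_isHomLift (CategoricalPullback.π₁ u 𝒮.p) g n).symm
        have : 𝒮.p.IsHomLift gg n.snd := IsHomLift.of_fac' 𝒮.p _ _ rfl rfl (by
          simp only [eqToHom_refl, Category.id_comp, Category.comp_id, gg]
          rw [← h1, n.w, Iso.inv_hom_id_assoc])
        exact CategoricalPullback.hom_ext h1 (IsStronglyCartesian.map_uniq 𝒮.p (𝒮.p.map φ.snd) φ.snd (g := gg) (f' := 𝒮.p.map t.snd) hgg t.snd n.snd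
          (congrArg CategoricalPullback.Hom.snd hn')) }

theorem isStack_pbCat (J : GrothendieckTopology C) (K : GrothendieckTopology D) (hu : CoverPreserving J K u)
    (h𝒮 : Stk.IsStack K 𝒮) : Stk.IsStack J (pbCat u 𝒮) := by
  refine ⟨pbCat_isFibGrpd u 𝒮 h𝒮.1, fun U R hR => ?_⟩
  haveI := toPb_isEquivalence u 𝒮 (𝒜 := FibCat.overCat U) h𝒮.1
  haveI := toPb_isEquivalence u 𝒮 (𝒜 := Stk.sieveCat R) h𝒮.1
  have e : Stk.restr (belowDMap u (Stk.sieveIncl R)) 𝒮 ⋙ toPb u 𝒮 (Stk.sieveCat R) ≅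
      toPb u 𝒮 (FibCat.overCat U) ⋙ Stk.resSieve R (pbCat u 𝒮) :=
    NatIso.ofComponents (fun _ => Iso.refl _)
      (fun _ => hext fun _ => (Category.comp_id _).trans (Category.id_comp _).symm)
  exact (isEquivalence_square e).mp (belowIncl_isEquivalence u R h𝒮.1 (h𝒮.2 _ (hu.cover_preserve hR)))

end ToPullback

end Groth.Agent.StkLib
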