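import Groth.Prelude.Def_W4stkalgstUpp
import Groth.Agent.FibBase.Cartesian
import Mathlib.CategoryTheory.Localization.CalculusOfFractions
import Mathlib.CategoryTheory.Limits.Preserves.Shapes.Pullbacks
import Mathlib.CategoryTheory.Limits.Shapes.Pullback.IsPullback.Basic
import Mathlib.CategoryTheory.Limits.Preserves.Shapes.Equalizers
import Mathlib.CategoryTheory.Limits.Shapes.FiniteLimits

/-!
# The pushforward of a fibred category along a functor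
-/

set_option autoImplicit false
set_option backward.isDefEq.respectTransparency false
set_option backward.isDefEq.respectTransparency.types false

universe v₃ u₃ v₂ u₂ v u

open CategoryTheory CategoryTheory.Functor CategoryTheory.Limits Groth.Agent.FibBase Stk

namespace Groth.Agent.StkLib

variable {C : Type u} [Category.{v} C] {D : Type u₂} [Category.{v₂} D] {u : C ⥤ D} {𝒮 : BasedCategory.{v₃, u₃} C}

lemma uppR_isMultiplicative : (uppR u 𝒮).IsMultiplicative where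
  id_mem a := ⟨by show 𝒮.p.IsStronglyCartesian (𝒮.p.map (𝟙 a.x)) (𝟙 a.x); infer_instance,
    inferInstanceAs (IsIso (𝟙 a.V))⟩
  comp_mem f g hf hg := by
    obtain ⟨_, _⟩ := hf
    obtain ⟨_, _⟩ := hg
    exact ⟨by show 𝒮.p.IsStronglyCartesian (𝒮.p.map (f.top ≫ g.top)) (f.top ≫ g.top)
              rw [Functor.map_comp]; infer_instance,
      inferInstanceAs (IsIso (f.bot ≫ g.bot))⟩

variable [𝒮.p.IsFibered]

lemma exists_sc (a : 𝒮.obj) {R : C} (f : R ⟶ 𝒮.p.obj a) :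
    ∃ (z : 𝒮.obj) (t : z ⟶ a) (e : 𝒮.p.obj z = R), 𝒮.p.IsStronglyCartesian f t ∧
      𝒮.p.IsStronglyCartesian (𝒮.p.map t) t ∧ 𝒮.p.map t = eqToHom e ≫ f := by
  obtain ⟨z, t, ht⟩ := IsPreFibered.exists_isCartesian 𝒮.p (rfl : 𝒮.p.obj a = _) f
  haveI : 𝒮.p.IsStronglyCartesian f t := inferInstance
  have e := IsHomLift.domain_eq 𝒮.p f t
  subst e
  have h := IsHomLift.eq_of_isHomLift 𝒮.p f t
  subst h
  exact ⟨z, t, rfl, inferInstance, inferInstance, (Category.id_comp _).symm⟩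

theorem hasRightCalculus [HasPullbacks C] [PreservesLimitsOfShape WalkingCospan u]
    [HasEqualizers C] [PreservesLimitsOfShape WalkingParallelPair u] :
    (uppR u 𝒮).HasRightCalculusOfFractions := by
  have := uppR_isMultiplicative (u := u) (𝒮 := 𝒮)
  refine { exists_rightFraction := fun a b φ => ?_, ext := fun a b c f₁ f₂ s hs e => ?_ }
  · obtain ⟨f, s, hs, hb⟩ := φ
    haveI := hb
    have sq := IsPullback.of_hasPullback (𝒮.p.map f.top) (𝒮.p.map s.top)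
    have sqD := sq.map u
    obtain ⟨z, t, ez, -, ht, hpt⟩ := exists_sc a.x (pullback.fst (𝒮.p.map f.top) (𝒮.p.map s.top))
    let q := sqD.lift a.φ (f.bot ≫ inv s.bot ≫ b.φ) (by
      rw [f.w, Category.assoc, Category.assoc, s.w, IsIso.inv_hom_id_assoc])
    let g : 𝒮.p.obj z ⟶ 𝒮.p.obj b.x := eqToHom ez ≫ pullback.snd (𝒮.p.map f.top) (𝒮.p.map s.top)
    have hg : 𝒮.p.map (t ≫ f.top) = g ≫ 𝒮.p.map s.top := by
      simp [g, hpt, pullback.condition]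
    let χ := IsStronglyCartesian.map 𝒮.p (𝒮.p.map s.top) s.top hg (t ≫ f.top)
    have hχ : 𝒮.p.map χ = g := (IsHomLift.eq_of_isHomLift 𝒮.p g χ).symm
    let d : UppObj u 𝒮 := ⟨z, a.V, q ≫ u.map (eqToHom ez.symm)⟩
    let σ : d ⟶ a := ⟨t, 𝟙 _, by simp [d, hpt, q, eqToHom_map]⟩
    let ψ : d ⟶ b := ⟨χ, f.bot ≫ inv s.bot, by simp [d, hχ, g, q, eqToHom_map]⟩
    refine ⟨⟨σ, ⟨ht, inferInstanceAs (IsIso (𝟙 a.V))⟩, ψ⟩, UppObj.hom_ext ?_ ?_⟩
    · exact (IsStronglyCartesian.fac 𝒮.p (𝒮.p.map s.top) s.top hg (t ≫ f.top)).symm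
    · show 𝟙 _ ≫ f.bot = (f.bot ≫ inv s.bot) ≫ s.bot
      simp
  · obtain ⟨hs, hb⟩ := hs
    haveI := hb
    have htop : f₁.top ≫ s.top = f₂.top ≫ s.top := congrArg UppObj.Hom.top e
    have hbot : f₁.bot = f₂.bot := (cancel_mono s.bot).mp (congrArg UppObj.Hom.bot e)
    let isl := isLimitForkMapOfIsLimit u (equalizer.condition (𝒮.p.map f₁.top) (𝒮.p.map f₂.top))
      (equalizerIsEqualizer (𝒮.p.map f₁.top) (𝒮.p.map f₂.top))
    have hφ : a.φ ≫ u.map (𝒮.p.map f₁.top) = a.φ ≫ u.map (𝒮.p.map f₂.top) := by rw [f₁.w, f₂.w, hbot]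
    obtain ⟨q, hq⟩ := Fork.IsLimit.lift' isl a.φ hφ
    obtain ⟨z, t, ez, -, ht, hpt⟩ := exists_sc a.x (equalizer.ι (𝒮.p.map f₁.top) (𝒮.p.map f₂.top))
    have hq' : q ≫ u.map (equalizer.ι (𝒮.p.map f₁.top) (𝒮.p.map f₂.top)) = a.φ := hq
    let d : UppObj u 𝒮 := ⟨z, a.V, q ≫ u.map (eqToHom ez.symm)⟩
    let σ : d ⟶ a := ⟨t, 𝟙 _, by simp [d, hpt, hq', eqToHom_map]⟩
    refine ⟨d, σ, ⟨ht, inferInstanceAs (IsIso (𝟙 a.V))⟩, UppObj.hom_ext ?_ (congrArg (𝟙 a.V ≫ ·) hbot)⟩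
    show t ≫ f₁.top = t ≫ f₂.top
    have hb' : 𝒮.p.map (t ≫ f₁.top) = 𝒮.p.map (t ≫ f₂.top) := by
      simp [hpt]
      rw [equalizer.condition]
    haveI : 𝒮.p.IsHomLift (𝒮.p.map (t ≫ f₁.top)) (t ≫ f₂.top) := by rw [hb']; infer_instance
    refine IsStronglyCartesian.ext 𝒮.p (𝒮.p.map s.top) s.top (𝒮.p.map (t ≫ f₁.top)) ?_
    rw [Category.assoc, Category.assoc, htop]

variable [(uppR u 𝒮).HasRightCalculusOfFractions]

omit [(uppR u 𝒮).HasRightCalculusOfFractions] [𝒮.p.IsFibered] in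
lemma up_map {a b : UppObj u 𝒮} (f : a ⟶ b) : (up u 𝒮).p.map ((uppR u 𝒮).Q.map f) = f.bot :=
  (Functor.congr_hom (Localization.Construction.fac (UppObj.forget u 𝒮) (uppR_isInvertedBy u 𝒮)) f).trans
    ((Category.id_comp _).trans (Category.comp_id _))

omit [𝒮.p.IsFibered] in
/-- Every morphism of the localisation is a right fraction. -/
lemma exists_fraction {a b : UppObj u 𝒮} (n : (uppR u 𝒮).Q.obj a ⟶ (uppR u 𝒮).Q.obj b) :
    ∃ (c : UppObj u 𝒮) (s : c ⟶ a) (f : c ⟶ b), uppR u 𝒮 s ∧ (uppR u 𝒮).Q.map s ≫ n = (uppR u 𝒮).Q.map f ∧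
      s.bot ≫ (up u 𝒮).p.map n = f.bot := by
  obtain ⟨ψ, hψ⟩ := Localization.exists_rightFraction (uppR u 𝒮).Q (uppR u 𝒮) n
  have h : (uppR u 𝒮).Q.map ψ.s ≫ n = (uppR u 𝒮).Q.map ψ.f := by
    rw [hψ, MorphismProperty.RightFraction.map_s_comp_map]
  refine ⟨ψ.X', ψ.s, ψ.f, ψ.hs, h, ?_⟩
  rw [← up_map ψ.f, ← h, Functor.map_comp, up_map]

theorem up_isFibered : (up u 𝒮).p.IsFibered := by
  refine IsFibered.of_exists_isStronglyCartesian fun X V f => ?_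
  obtain ⟨a, rfl⟩ := (Localization.Construction.objEquiv (uppR u 𝒮)).surjective X
  revert f
  intro (f : V ⟶ a.V)
  let a' : UppObj u 𝒮 := ⟨a.x, V, f ≫ a.φ⟩
  let ψ : a' ⟶ a := ⟨𝟙 a.x, f, by simp [a']⟩
  refine ⟨(uppR u 𝒮).Q.obj a', (uppR u 𝒮).Q.map ψ, ?_⟩
  haveI : (up u 𝒮).p.IsHomLift f ((uppR u 𝒮).Q.map ψ) := by
    refine IsHomLift.of_fac' (up u 𝒮).p _ _ rfl rfl ?_
    rw [up_map]
    exact ((Category.id_comp _).trans (Category.comp_id _)).symm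
  constructor
  intro Y g φ' hφ'
  obtain ⟨b, rfl⟩ := (Localization.Construction.objEquiv (uppR u 𝒮)).surjective Y
  revert g
  intro (g : b.V ⟶ V) hφ'
  have hp : (up u 𝒮).p.map φ' = g ≫ f :=
    (IsHomLift.fac' (up u 𝒮).p (g ≫ f) φ').trans ((Category.id_comp _).trans (Category.comp_id _))
  obtain ⟨c, s, h, hs, hh, hhb⟩ := exists_fraction φ'
  rw [hp] at hhb
  let nf : c ⟶ a' := ⟨h.top, s.bot ≫ g, by
    show c.φ ≫ u.map (𝒮.p.map h.top) = (s.bot ≫ g) ≫ f ≫ a.φ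
    rw [h.w, ← hhb]
    simp⟩
  have hnf : nf ≫ ψ = h := UppObj.hom_ext (Category.comp_id _) ((Category.assoc _ _ _).trans hhb)
  haveI : IsIso ((uppR u 𝒮).Q.map s) := Localization.inverts (uppR u 𝒮).Q (uppR u 𝒮) s hs
  haveI : IsIso s.bot := hs.2
  obtain ⟨n, hh1⟩ : ∃ n, (uppR u 𝒮).Q.map s ≫ n = (uppR u 𝒮).Q.map nf :=
    ⟨inv ((uppR u 𝒮).Q.map s) ≫ (uppR u 𝒮).Q.map nf, IsIso.hom_inv_id_assoc _ _⟩
  have hn : (up u 𝒮).p.map n = g := by
    refine (cancel_epi s.bot).mp ?_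
    refine Eq.trans ?_ (up_map nf)
    show s.bot ≫ (up u 𝒮).p.map n = _
    rw [← up_map s, ← Functor.map_comp, hh1]
  have hn2 : n ≫ (uppR u 𝒮).Q.map ψ = φ' := by
    rw [← cancel_epi ((uppR u 𝒮).Q.map s), ← Category.assoc, hh1, ← Functor.map_comp, hnf]
    exact hh.symm
  refine ⟨n, ⟨IsHomLift.of_fac' (up u 𝒮).p _ _ rfl rfl
    (hn.trans ((Category.id_comp _).trans (Category.comp_id _)).symm), hn2⟩, ?_⟩
  rintro n' ⟨hl, hn'⟩
  have hp' : (up u 𝒮).p.map n' = g :=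
    (IsHomLift.fac' (up u 𝒮).p g n').trans ((Category.id_comp _).trans (Category.comp_id _))
  obtain ⟨c', s', f', hs', hf', hfb'⟩ := exists_fraction n'
  rw [hp'] at hfb'
  haveI : IsIso ((uppR u 𝒮).Q.map s') := Localization.inverts (uppR u 𝒮).Q (uppR u 𝒮) s' hs'
  obtain ⟨⟨t, ht, t'⟩, htt⟩ := (MorphismProperty.LeftFraction.mk s s' hs').exists_rightFraction
  haveI : IsIso ((uppR u 𝒮).Q.map t) := Localization.inverts (uppR u 𝒮).Q (uppR u 𝒮) t ht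
  have h1 : (uppR u 𝒮).Q.map (t ≫ s) ≫ n = (uppR u 𝒮).Q.map (t ≫ nf) := by simp [hh1]
  have h2 : (uppR u 𝒮).Q.map (t ≫ s) ≫ n' = (uppR u 𝒮).Q.map (t' ≫ f') := by
    rw [htt, Functor.map_comp, Category.assoc, hf', ← Functor.map_comp]
  have h3 : (uppR u 𝒮).Q.map (t ≫ nf ≫ ψ) = (uppR u 𝒮).Q.map (t' ≫ f' ≫ ψ) := by
    rw [← Category.assoc t nf ψ, ← Category.assoc t' f' ψ, Functor.map_comp _ (t ≫ nf) ψ, Functor.map_comp _ (t' ≫ f') ψ, ← h1, ← h2,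
      Category.assoc, Category.assoc, hn2, hn']
  obtain ⟨e, r, hr, hre⟩ := (MorphismProperty.map_eq_iff_precomp (uppR u 𝒮).Q (uppR u 𝒮) _ _).mp h3
  haveI : IsIso ((uppR u 𝒮).Q.map r) := Localization.inverts (uppR u 𝒮).Q (uppR u 𝒮) r hr
  have h4 : r ≫ t ≫ nf = r ≫ t' ≫ f' := by
    refine UppObj.hom_ext ?_ ?_
    · have := congrArg UppObj.Hom.top hre
      simp only [UppObj.comp_top, ψ] at this ⊢
      erw [Category.comp_id, Category.comp_id] at this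
      exact this
    · have hb : t.bot ≫ s.bot = t'.bot ≫ s'.bot := congrArg UppObj.Hom.bot htt
      show r.bot ≫ t.bot ≫ s.bot ≫ g = r.bot ≫ t'.bot ≫ f'.bot
      rw [← hfb', reassoc_of% hb]
  have h5 : (uppR u 𝒮).Q.map (t ≫ nf) = (uppR u 𝒮).Q.map (t' ≫ f') := by
    rw [← cancel_epi ((uppR u 𝒮).Q.map r), ← Functor.map_comp, ← Functor.map_comp, h4]
  haveI : IsIso ((uppR u 𝒮).Q.map (t ≫ s)) := by rw [Functor.map_comp]; infer_instance
  exact (cancel_epi ((uppR u 𝒮).Q.map (t ≫ s))).mp (h2.trans (h5.symm.trans h1.symm))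

theorem up_isFibGrpd (h : FibCat.IsFibGrpd 𝒮.p) : FibCat.IsFibGrpd (up u 𝒮).p := by
  refine isFibGrpd_iff.mpr ⟨up_isFibered, fun U => ⟨fun {X Y} m => ?_⟩⟩
  suffices hiso : IsIso m.1 by
    haveI := m.2
    exact ⟨⟨⟨inv m.1, IsHomLift.lift_id_inv_isIso (up u 𝒮).p U m.1⟩,
      Subtype.ext (IsIso.hom_inv_id m.1), Subtype.ext (IsIso.inv_hom_id m.1)⟩⟩
  obtain ⟨X, hX⟩ := X
  obtain ⟨Y, hY⟩ := Y
  obtain ⟨m, hm⟩ := m
  obtain ⟨a, rfl⟩ := (Localization.Construction.objEquiv (uppR u 𝒮)).surjective X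
  obtain ⟨b, rfl⟩ := (Localization.Construction.objEquiv (uppR u 𝒮)).surjective Y
  obtain ⟨c, s, f, hs, hf, hfb⟩ := exists_fraction m
  haveI : IsIso ((uppR u 𝒮).Q.map s) := Localization.inverts (uppR u 𝒮).Q (uppR u 𝒮) s hs
  haveI : IsIso s.bot := hs.2
  have hfR : uppR u 𝒮 f := by
    refine ⟨h.isStronglyCartesian f.top, ?_⟩
    haveI : IsIso ((up u 𝒮).p.map m) := by
      rw [map_eq_of_isHomLift_id (p := (up u 𝒮).p) hm]
      infer_instance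
    rw [← hfb]
    exact inferInstanceAs (IsIso (s.bot ≫ (up u 𝒮).p.map m))
  haveI : IsIso ((uppR u 𝒮).Q.map f) := Localization.inverts (uppR u 𝒮).Q (uppR u 𝒮) f hfR
  show IsIso m
  rw [show m = inv ((uppR u 𝒮).Q.map s) ≫ (uppR u 𝒮).Q.map f by rw [← hf, IsIso.inv_hom_id_assoc]]
  infer_instance

end Groth.Agent.StkLib
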