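import Groth.Agent.StkLib.Sieves

/-!
# Descent along a refinement
-/

set_option autoImplicit false
set_option backward.isDefEq.respectTransparency false
set_option backward.isDefEq.respectTransparency.types false

universe v₄ u₄ v u

open CategoryTheory CategoryTheory.Functor Groth.Agent.FibBase

namespace Groth.Agent.StkLib

variable {C : Type u} [Category.{v} C] {𝒳 : BasedCategory.{v₄, u₄} C} {U : C} {S R : Sieve U}

/-- The inclusion of a finer sieve. -/
abbrev sieveLE (hSR : S ≤ R) : Stk.sieveCat S ⥤ᵇ Stk.sieveCat R :=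
  ⟨ObjectProperty.lift _ (ObjectProperty.ι _) (fun a => hSR _ a.property), rfl⟩

variable (a : (Stk.sieveCat R).obj)

/-- The slice of the source of an arrow of a sieve, mapped into the sieve. -/
abbrev sliceTo : FibCat.overCat a.obj.left ⥤ᵇ Stk.sieveCat R :=
  ⟨ObjectProperty.lift _ (Over.map a.obj.hom) (fun c => R.downward_closed a.property c.hom), rfl⟩

/-- The pulled back sieve mapped into the sieve. -/
abbrev pullTo (S : Sieve U) : Stk.sieveCat (S.pullback a.obj.hom) ⥤ᵇ Stk.sieveCat S :=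
  ⟨ObjectProperty.lift _ (ObjectProperty.ι _ ⋙ Over.map a.obj.hom) (fun c => c.property), rfl⟩

lemma hom_ext_at (h : FibCat.IsFibGrpd 𝒳.p) {G : Stk.sieveCat R ⥤ᵇ 𝒳}
    (hS : (Stk.resSieve (S.pullback a.obj.hom) 𝒳).Faithful) {x' : 𝒳.obj} (φ φ' : G.obj a ⟶ x')
    (hφ : 𝒳.p.IsHomLift (𝟙 a.obj.left) φ) (hφ' : 𝒳.p.IsHomLift (𝟙 a.obj.left) φ')
    (H : ∀ (b : (Stk.sieveCat R).obj) (k : b ⟶ a), S b.obj.hom → G.map k ≫ φ = G.map k ≫ φ') : φ = φ' := by
  refine hom_ext_of_prestackFor h hS φ φ' hφ hφ' fun V f hf => ?_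
  let b : (Stk.sieveCat R).obj := ⟨Over.mk (f ≫ a.obj.hom), R.downward_closed a.property f⟩
  let k : b ⟶ a := ObjectProperty.homMk (Over.homMk f)
  haveI : (Stk.sieveCat R).p.IsHomLift f k := IsHomLift.map (Stk.sieveCat R).p k
  exact ⟨G.obj b, G.map k, G.preserves_isHomLift f k, H b k hf⟩

lemma hom_exists_at {G H : Stk.sieveCat R ⥤ᵇ 𝒳} (hSR : S ≤ R)
    (hS : (Stk.resSieve (S.pullback a.obj.hom) 𝒳).Full)
    (γ : (Stk.restr (sieveLE hSR) 𝒳).obj G ⟶ (Stk.restr (sieveLE hSR) 𝒳).obj H) :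
    ∃ η : G.obj a ⟶ H.obj a, 𝒳.p.IsHomLift (𝟙 a.obj.left) η ∧ ∀ (b : (Stk.sieveCat S).obj) (k : (sieveLE hSR).obj b ⟶ a),
      G.map k ≫ η = γ.toNatTrans.app b ≫ H.map k := by
  obtain ⟨δ, hδ⟩ := (Stk.resSieve (S.pullback a.obj.hom) 𝒳).map_surjective
    (X := BasedFunctor.comp (sliceTo a) G) (Y := BasedFunctor.comp (sliceTo a) H)
    ((Stk.restr (pullTo a S) 𝒳).map γ)
  let m := (sliceTo a).obj (Over.mk (𝟙 a.obj.left))
  let w : a ⟶ m := ObjectProperty.homMk (Over.homMk (𝟙 a.obj.left) (by simp [m]))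
  let u : m ⟶ a := ObjectProperty.homMk (Over.homMk (𝟙 a.obj.left) (by simp [m]))
  haveI : (Stk.sieveCat R).p.IsHomLift (𝟙 a.obj.left) w := IsHomLift.map (Stk.sieveCat R).p w
  haveI : (Stk.sieveCat R).p.IsHomLift (𝟙 a.obj.left) u := IsHomLift.map (Stk.sieveCat R).p u
  haveI : 𝒳.p.IsHomLift (𝟙 a.obj.left) (δ.toNatTrans.app (Over.mk (𝟙 a.obj.left))) := BasedNatTrans.isHomLift δ rfl
  haveI := G.preserves_isHomLift (𝟙 a.obj.left) w
  haveI := H.preserves_isHomLift (𝟙 a.obj.left) u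
  refine ⟨G.map w ≫ δ.toNatTrans.app (Over.mk (𝟙 _)) ≫ H.map u,
    inferInstanceAs (𝒳.p.IsHomLift (𝟙 a.obj.left) (G.map w ≫ δ.toNatTrans.app (Over.mk (𝟙 _)) ≫ H.map u)), fun b k => ?_⟩
  let c : Over a.obj.left := Over.mk k.hom.left
  have hc : S (k.hom.left ≫ a.obj.hom) := by rw [Over.w k.hom]; exact b.property
  let b' : (Stk.sieveCat (S.pullback a.obj.hom)).obj := ⟨c, hc⟩
  let e : b ⟶ (pullTo a S).obj b' := ObjectProperty.homMk (Over.homMk (𝟙 _) (by
    show 𝟙 b.obj.left ≫ k.hom.left ≫ a.obj.hom = b.obj.hom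
    rw [Category.id_comp]
    exact Over.w k.hom))
  let q : (sliceTo a).obj c ⟶ m := (sliceTo a).map (toId c)
  have hk : k ≫ w = (sieveLE hSR).map e ≫ q := by
    apply ObjectProperty.hom_ext; apply Over.OverMorphism.ext
    show k.hom.left ≫ 𝟙 _ = 𝟙 _ ≫ k.hom.left
    simp
  have hk' : (sieveLE hSR).map e ≫ q ≫ u = k := by
    apply ObjectProperty.hom_ext; apply Over.OverMorphism.ext
    show 𝟙 _ ≫ k.hom.left ≫ 𝟙 _ = k.hom.left
    simp
  have hd : δ.toNatTrans.app c = γ.toNatTrans.app ((pullTo a S).obj b') :=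
    congrArg (fun s => s.toNatTrans.app b') hδ
  have n1 : G.map q ≫ δ.toNatTrans.app (Over.mk (𝟙 _)) = δ.toNatTrans.app c ≫ H.map q :=
    δ.toNatTrans.naturality (toId c)
  have n2 : G.map ((sieveLE hSR).map e) ≫ γ.toNatTrans.app ((pullTo a S).obj b') =
      γ.toNatTrans.app b ≫ H.map ((sieveLE hSR).map e) := γ.toNatTrans.naturality e
  rw [← G.toFunctor.map_comp_assoc, hk, G.toFunctor.map_comp, Category.assoc, reassoc_of% n1, hd,
    ← Category.assoc, n2, Category.assoc, ← H.toFunctor.map_comp, ← H.toFunctor.map_comp, hk']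

theorem restr_sieveLE_ff (h : FibCat.IsFibGrpd 𝒳.p) (hSR : S ≤ R)
    (hR : ∀ ⦃V : C⦄ (f : V ⟶ U), R f → Stk.IsPrestackFor (S.pullback f) 𝒳) :
    (Stk.restr (sieveLE hSR) 𝒳).Full ∧ (Stk.restr (sieveLE hSR) 𝒳).Faithful := by
  refine ⟨⟨fun {G H} γ => ?_⟩, ⟨fun {G H} α β e => hext fun a => ?_⟩⟩
  · choose η hη hp using fun a : (Stk.sieveCat R).obj => hom_exists_at a hSR (hR a.obj.hom a.property).1 γ
    refine ⟨{ toNatTrans := { app := η, naturality := fun a' a g => ?_ }, isHomLift' := hη }, ?_⟩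
    · haveI : 𝒳.p.IsHomLift g.hom.left (G.map g) := by
        haveI : (Stk.sieveCat R).p.IsHomLift g.hom.left g := IsHomLift.map (Stk.sieveCat R).p g
        exact G.preserves_isHomLift g.hom.left g
      haveI : 𝒳.p.IsHomLift g.hom.left (H.map g) := by
        haveI : (Stk.sieveCat R).p.IsHomLift g.hom.left g := IsHomLift.map (Stk.sieveCat R).p g
        exact H.preserves_isHomLift g.hom.left g
      haveI := isSC (hp := h) g.hom.left (H.map g)
      haveI := hη a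
      haveI : 𝒳.p.IsHomLift g.hom.left (G.map g ≫ η a) :=
        IsHomLift.comp_lift_id_right' 𝒳.p g.hom.left (G.map g) a.obj.left (η a)
      rw [← IsCartesian.fac 𝒳.p g.hom.left (H.map g) (G.map g ≫ η a)]
      congr 1
      refine hom_ext_at a' h (hR a'.obj.hom a'.property).2 _ _ inferInstance (hη a') fun b k hb => ?_
      haveI : 𝒳.p.IsHomLift k.hom.left (G.map k) := by
        haveI : (Stk.sieveCat R).p.IsHomLift k.hom.left k := IsHomLift.map (Stk.sieveCat R).p k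
        exact G.preserves_isHomLift k.hom.left k
      haveI := hη a'
      refine IsStronglyCartesian.ext 𝒳.p g.hom.left (H.map g) k.hom.left ?_
      simp only [Category.assoc, IsCartesian.fac]
      refine Eq.trans ?_ ((reassoc_of% (hp a' ⟨b.obj, hb⟩ k)) (H.map g)).symm
      rw [← G.toFunctor.map_comp_assoc, ← H.toFunctor.map_comp]
      exact hp a ⟨b.obj, hb⟩ (k ≫ g)
    · refine hext fun b => ?_
      have := hp ((sieveLE hSR).obj b) b (𝟙 _)
      rw [G.toFunctor.map_id, H.toFunctor.map_id, Category.id_comp] at this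
      exact this.trans (Category.comp_id _)
  · refine hom_ext_at a h (hR a.obj.hom a.property).2 _ _ (α.isHomLift' a) (β.isHomLift' a) fun b k hb => ?_
    rw [α.toNatTrans.naturality, β.toNatTrans.naturality]
    exact congrArg (· ≫ H.map k) (congrArg (fun s => s.toNatTrans.app (⟨b.obj, hb⟩ : (Stk.sieveCat S).obj)) e)

theorem isStackFor_of_le (h : FibCat.IsFibGrpd 𝒳.p) (hSR : S ≤ R) (hS : Stk.IsStackFor S 𝒳)
    (hR : ∀ ⦃V : C⦄ (f : V ⟶ U), R f → Stk.IsPrestackFor (S.pullback f) 𝒳) : Stk.IsStackFor R 𝒳 := by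
  obtain ⟨_, _⟩ := restr_sieveLE_ff h hSR hR
  haveI : (Stk.resSieve S 𝒳).IsEquivalence := hS
  have e : Stk.resSieve S 𝒳 ≅ Stk.resSieve R 𝒳 ⋙ Stk.restr (sieveLE hSR) 𝒳 :=
    NatIso.ofComponents (fun _ => Iso.refl _)
      (fun _ => hext fun _ => (Category.comp_id _).trans (Category.id_comp _).symm)
  haveI : (Stk.resSieve R 𝒳 ⋙ Stk.restr (sieveLE hSR) 𝒳).IsEquivalence := Functor.isEquivalence_of_iso e
  haveI : (Stk.resSieve R 𝒳 ⋙ Stk.restr (sieveLE hSR) 𝒳).EssSurj := inferInstance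
  haveI : (Stk.restr (sieveLE hSR) 𝒳).EssSurj := ⟨fun Y => ⟨_, ⟨(Stk.resSieve R 𝒳 ⋙ Stk.restr (sieveLE hSR) 𝒳).objObjPreimageIso Y⟩⟩⟩
  haveI : (Stk.restr (sieveLE hSR) 𝒳).IsEquivalence := { }
  exact Functor.isEquivalence_of_comp_right (Stk.resSieve R 𝒳) (Stk.restr (sieveLE hSR) 𝒳)

end Groth.Agent.StkLib
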