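import Groth.Agent.StkLib.Basic
import Groth.Prelude.Def_W4c2modmodulilectNerve
import Mathlib.CategoryTheory.Category.ULift
import Mathlib.CategoryTheory.Comma.StructuredArrow.Basic
import Mathlib.CategoryTheory.Adjunction.Basic
import Mathlib.CategoryTheory.Discrete.Basic

/-!
# Sections of a category fibred in groupoids and cofinal diagrams
-/

set_option autoImplicit false
set_option backward.isDefEq.respectTransparency false
set_option backward.isDefEq.respectTransparency.types false

universe w₂ w v₄ u₄ v₃ u₃ v₂ u₂ v₁ u₁ v u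

open CategoryTheory CategoryTheory.Functor Groth.Agent.FibBase

namespace Groth.Agent.StkLib

section Nerve

variable {A : Type u} [Category.{v} A]

/-- A function invariant along morphisms is constant on a category with contractible nerve. -/
lemma eq_of_invariant (h : W4c2modmodulilect.HasContractibleNerve.{w, w} A) {T : Type w} (k : A → T)
    (hk : ∀ {a b : A}, (a ⟶ b) → k a = k b) (a b : A) : k a = k b := by
  letI : Groupoid.{w} (Discrete T) := { inv := fun f => Discrete.eqToHom (Discrete.eq_of_hom f).symm }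
  have := h.2 (Discrete T)
  let K : A ⥤ Discrete T := { obj := fun a => ⟨k a⟩, map := fun f => Discrete.eqToHom (hk f) }
  let g := (Functor.const A : Discrete T ⥤ A ⥤ Discrete T).objPreimage K
  let e := (Functor.const A : Discrete T ⥤ A ⥤ Discrete T).objObjPreimageIso K
  exact (Discrete.eq_of_hom (e.hom.app a)).symm.trans (Discrete.eq_of_hom (e.hom.app b))

variable {B : Type u₁} [Category.{v₁} B]

/-- Contractibility passes along an adjunction. -/
lemma hasContractibleNerve_of_adjunction (h : W4c2modmodulilect.HasContractibleNerve.{w, w₂} B) {i : B ⥤ A} {r : A ⥤ B}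
    (adj : i ⊣ r) : W4c2modmodulilect.HasContractibleNerve.{w, w₂} A := by
  refine ⟨⟨i.obj h.1.some⟩, fun G _ => ?_⟩
  have := h.2 G
  let W₁ : (A ⥤ G) ⥤ (B ⥤ G) := (Functor.whiskeringLeft B A G).obj i
  let W₂ : (B ⥤ G) ⥤ (A ⥤ G) := (Functor.whiskeringLeft A B G).obj r
  haveI : ∀ K : A ⥤ G, IsIso (Functor.whiskerRight adj.counit K) := fun K => NatIso.isIso_of_isIso_app _
  haveI : ∀ K : B ⥤ G, IsIso (Functor.whiskerRight adj.unit K) := fun K => NatIso.isIso_of_isIso_app _
  let E : (B ⥤ G) ≌ (A ⥤ G) := CategoryTheory.Equivalence.mk W₂ W₁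
    (NatIso.ofComponents (fun K => asIso (Functor.whiskerRight adj.unit K))
      (fun {K L} α => NatTrans.ext (funext fun b => (α.naturality (adj.unit.app b)).symm)))
    (NatIso.ofComponents (fun K => asIso (Functor.whiskerRight adj.counit K))
      (fun {K L} α => NatTrans.ext (funext fun a => (α.naturality (adj.counit.app a)).symm)))
  haveI : W₂.IsEquivalence := E.isEquivalence_functor
  exact Functor.isEquivalence_of_iso
    (NatIso.ofComponents (fun g => Iso.refl _) : (Functor.const B : G ⥤ B ⥤ G) ⋙ W₂ ≅ Functor.const A)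

end Nerve

section Sections

variable {C : Type u₁} [Category.{v₁} C] {D : Type u₂} [Category.{v₂} D] {F : Type u₃} [Category.{v₃} F]
  (φ : C ⥤ D) (p : F ⥤ D) [hp : FibCat.IsFibGrpd p]

omit hp in
lemma sec_lift (s : FibCat.selfOver D ⥤ᵇ BasedCategory.ofFunctor p) {Y Y' : D} (g : Y ⟶ Y') :
    p.IsHomLift g (s.map g) :=
  haveI : (FibCat.selfOver D).p.IsHomLift g g := IsHomLift.map (𝟭 D) g
  s.preserves_isHomLift g g

omit hp in
lemma diag_lift (t : BasedCategory.ofFunctor φ ⥤ᵇ BasedCategory.ofFunctor p) {X X' : C} (m : X ⟶ X') :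
    p.IsHomLift (φ.map m) (t.map m) :=
  haveI : (BasedCategory.ofFunctor φ).p.IsHomLift (φ.map m) m := IsHomLift.map φ m
  t.preserves_isHomLift (φ.map m) m

/-- An auxiliary copy of a fibre in a large universe. -/
abbrev BigFibre (Y : D) := AsSmall.{max u₁ u₂ u₃ v₁ v₂ v₃} (p.Fiber Y)

include hp in
theorem restr_toSelf_isEquivalence
    (hφ : ∀ Y : D, W4c2modmodulilect.HasContractibleNerve.{max u₁ u₂ u₃ v₁ v₂ v₃, max u₁ u₂ u₃ v₁ v₂ v₃} (StructuredArrow Y φ)) :
    (Stk.restr (FibCat.toSelf (BasedCategory.ofFunctor φ)) (BasedCategory.ofFunctor p)).IsEquivalence := by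
  have ext₁ : ∀ {Y Y' : D} (f : Y ⟶ Y') {a b c : F} (ψ : b ⟶ c) [p.IsHomLift f ψ] {R : D} (g : R ⟶ Y)
      (χ χ' : a ⟶ b) [p.IsHomLift g χ] [p.IsHomLift g χ'], χ ≫ ψ = χ' ≫ ψ → χ = χ' := by
    intro Y Y' f a b c ψ _ R g χ χ' _ _ e
    have := isSC (p := p) f ψ
    exact IsStronglyCartesian.ext p f ψ g e
  refine { faithful := ⟨fun {s s'} α β h => hext fun Y => ?_⟩, full := ⟨fun {s s'} γ => ?_⟩, essSurj := ⟨fun t => ?_⟩ }
  · obtain ⟨a⟩ := (hφ Y).1
    have := sec_lift p s' a.hom
    haveI : p.IsHomLift (𝟙 Y) (α.toNatTrans.app Y) := α.isHomLift' Y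
    haveI : p.IsHomLift (𝟙 Y) (β.toNatTrans.app Y) := β.isHomLift' Y
    refine ext₁ a.hom (s'.map a.hom) (𝟙 Y) _ _ ?_
    rw [← α.toNatTrans.naturality, ← β.toNatTrans.naturality]
    exact congrArg (s.map a.hom ≫ ·) (congrArg (fun k => k.toNatTrans.app a.right) h)
  · have key : ∀ Y, ∃ η : s.obj Y ⟶ s'.obj Y, p.IsHomLift (𝟙 Y) η ∧
        ∀ a : StructuredArrow Y φ, η ≫ s'.map a.hom = s.map a.hom ≫ γ.toNatTrans.app a.right := by
      intro Y
      have hh : ∀ a : StructuredArrow Y φ, ∃ η : s.obj Y ⟶ s'.obj Y, p.IsHomLift (𝟙 Y) η ∧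
          η ≫ s'.map a.hom = s.map a.hom ≫ γ.toNatTrans.app a.right := fun a => by
        have := sec_lift p s' a.hom
        have := sec_lift p s a.hom
        have := isSC (p := p) a.hom (s'.map a.hom)
        haveI : p.IsHomLift (𝟙 (φ.obj a.right)) (γ.toNatTrans.app a.right) := γ.isHomLift' a.right
        haveI : p.IsHomLift a.hom (s.map a.hom ≫ γ.toNatTrans.app a.right) :=
          IsHomLift.comp_lift_id_right' p a.hom (s.map a.hom) (φ.obj a.right) (γ.toNatTrans.app a.right)
        exact ⟨IsCartesian.map p a.hom (s'.map a.hom) (s.map a.hom ≫ γ.toNatTrans.app a.right), inferInstance,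
          IsCartesian.fac _ _ _ _⟩
      choose η hη hfac using hh
      obtain ⟨a₀⟩ := (hφ Y).1
      have step : ∀ {a b : StructuredArrow Y φ}, (a ⟶ b) → ULift.up.{max u₁ u₂ u₃ v₁ v₂ v₃} (η a) = ULift.up (η b) := by
        intro a b m
        have hw : a.hom ≫ φ.map m.right = b.hom := StructuredArrow.w m
        have := sec_lift p s' b.hom
        haveI := hη a
        haveI := hη b
        refine congrArg ULift.up (ext₁ b.hom (s'.map b.hom) (𝟙 Y) (η a) (η b) ?_)
        have hn : s.map (φ.map m.right) ≫ γ.toNatTrans.app b.right = γ.toNatTrans.app a.right ≫ s'.map (φ.map m.right) :=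
          γ.toNatTrans.naturality m.right
        rw [hfac b, ← hw]
        erw [s'.toFunctor.map_comp, s.toFunctor.map_comp]
        rw [reassoc_of% (hfac a), Category.assoc]
        exact congrArg (s.map a.hom ≫ ·) hn.symm
      refine ⟨η a₀, hη a₀, fun a => ?_⟩
      rw [ULift.up.inj (eq_of_invariant (hφ Y) (fun a => ULift.up (η a)) step a₀ a)]
      exact hfac a
    choose η hη hfac using key
    refine ⟨{ toNatTrans := { app := η, naturality := fun Y' Y g => ?_ }, isHomLift' := hη }, hext fun X => ?_⟩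
    · obtain ⟨a⟩ := (hφ Y).1
      have := sec_lift p s g
      have := sec_lift p s' g
      have := sec_lift p s' a.hom
      haveI : p.IsHomLift (𝟙 Y) (η Y) := hη Y
      haveI : p.IsHomLift (𝟙 Y') (η Y') := hη Y'
      haveI : p.IsHomLift g (s.map g ≫ η Y) := IsHomLift.comp_lift_id_right' p g (s.map g) Y (η Y)
      haveI : p.IsHomLift g (η Y' ≫ s'.map g) := IsHomLift.comp_lift_id_left' p Y' (η Y') g (s'.map g)
      refine ext₁ a.hom (s'.map a.hom) g _ _ ?_
      rw [Category.assoc, hfac Y a, Category.assoc, ← s'.toFunctor.map_comp, ← s.toFunctor.map_comp_assoc]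
      exact (hfac Y' (StructuredArrow.mk (g ≫ a.hom))).symm
    · have := hfac (φ.obj X) (StructuredArrow.mk (𝟙 (φ.obj X)))
      simp only [StructuredArrow.mk_hom_eq_self] at this
      erw [s.toFunctor.map_id, s'.toFunctor.map_id] at this
      exact (Category.comp_id _).symm.trans (this.trans (Category.id_comp _))
  · have fam : ∀ Y : D, ∃ (x : F) (_ : p.obj x = Y) (μ : ∀ a : StructuredArrow Y φ, x ⟶ t.obj a.right),
        (∀ a, p.IsHomLift a.hom (μ a)) ∧ ∀ {a b : StructuredArrow Y φ} (m : a ⟶ b), μ a ≫ t.map m.right = μ b := by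
      intro Y
      choose z l hl using fun a : StructuredArrow Y φ => exists_lift_of_eq hp (t.w_obj a.right) a.hom
      have hm : ∀ {a b : StructuredArrow Y φ} (m : a ⟶ b), ∃ k : z a ⟶ z b, p.IsHomLift (𝟙 Y) k ∧
          k ≫ l b = l a ≫ t.map m.right := by
        intro a b m
        haveI := hl a
        haveI := hl b
        have := diag_lift φ p t m.right
        have := isSC (p := p) b.hom (l b)
        have hw : a.hom ≫ φ.map m.right = b.hom := StructuredArrow.w m
        haveI : p.IsHomLift b.hom (l a ≫ t.map m.right) := hw ▸ inferInstance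
        exact ⟨IsCartesian.map p b.hom (l b) (l a ≫ t.map m.right), inferInstance, IsCartesian.fac _ _ _ _⟩
      choose k hk hkl using @hm
      let T : StructuredArrow Y φ ⥤ p.Fiber Y :=
        { obj := fun a => ⟨z a, IsHomLift.domain_eq p a.hom (l a)⟩
          map := fun {a b} m => ⟨k m, hk m⟩
          map_id := fun a => Subtype.ext (by
            haveI := hl a
            haveI := hk (𝟙 a)
            haveI : p.IsHomLift (𝟙 Y) (𝟙 (z a)) := IsHomLift.id (IsHomLift.domain_eq p a.hom (l a))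
            refine ext₁ a.hom (l a) (𝟙 Y) (k (𝟙 a)) (𝟙 (z a)) ?_
            rw [hkl, Category.id_comp]
            show l a ≫ t.map (𝟙 a.right) = l a
            erw [t.toFunctor.map_id]
            exact Category.comp_id _)
          map_comp := fun {a b c} m m' => Subtype.ext (by
            haveI := hl c
            haveI := hk m
            haveI := hk m'
            haveI := hk (m ≫ m')
            show k (m ≫ m') = k m ≫ k m'
            haveI : p.IsHomLift (𝟙 Y) (k m ≫ k m') := inferInstance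
            refine ext₁ c.hom (l c) (𝟙 Y) (k (m ≫ m')) (k m ≫ k m') ?_
            rw [hkl, Category.assoc, hkl, reassoc_of% (hkl m)]
            show l a ≫ t.map (m.right ≫ m'.right) = _
            erw [t.toFunctor.map_comp]) }
      haveI : IsGroupoid (p.Fiber Y) := fiber_isGroupoid hp Y
      haveI : IsGroupoid (BigFibre.{v₃, u₃, v₂, u₂, v₁, u₁} p Y) := ⟨fun f => by
        haveI : IsIso (AsSmall.down.map f) := IsGroupoid.all_isIso _
        haveI : (AsSmall.down : BigFibre.{v₃, u₃, v₂, u₂, v₁, u₁} p Y ⥤ _).IsEquivalence :=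
          AsSmall.equiv.isEquivalence_inverse
        exact isIso_of_reflects_iso f AsSmall.down⟩
      letI : Groupoid (BigFibre.{v₃, u₃, v₂, u₂, v₁, u₁} p Y) := Groupoid.ofIsGroupoid
      have := (hφ Y).2 (BigFibre.{v₃, u₃, v₂, u₂, v₁, u₁} p Y)
      let g := (Functor.const (StructuredArrow Y φ)).objPreimage (T ⋙ (AsSmall.up : p.Fiber Y ⥤ BigFibre.{v₃, u₃, v₂, u₂, v₁, u₁} p Y))
      let e := (Functor.const (StructuredArrow Y φ)).objObjPreimageIso (T ⋙ (AsSmall.up : p.Fiber Y ⥤ BigFibre.{v₃, u₃, v₂, u₂, v₁, u₁} p Y))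
      let x := AsSmall.down.obj g
      let i : ∀ a, x ⟶ T.obj a := fun a => AsSmall.down.map (e.hom.app a)
      refine ⟨x.1, x.2, fun a => (i a).1 ≫ l a, fun a => ?_, fun {a b} m => ?_⟩
      · haveI := (i a).2
        haveI : p.IsHomLift a.hom (l a) := hl a
        exact IsHomLift.comp_lift_id_left' p Y (i a).1 a.hom (l a)
      · have hn : i a ≫ T.map m = i b := by
          have := congrArg AsSmall.down.map (e.hom.naturality m)
          rw [Functor.map_comp, Functor.map_comp] at this
          exact this.symm.trans ((congrArg (· ≫ _) (AsSmall.down.map_id g)).trans (Category.id_comp _))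
        show ((i a).1 ≫ l a) ≫ t.map m.right = (i b).1 ≫ l b
        rw [Category.assoc, ← hkl m, ← Category.assoc]
        exact congrArg (· ≫ l b) (congrArg Subtype.val hn)
    choose x hx μ hμ hnat using fam
    have key : ∀ {Y' Y : D} (g : Y' ⟶ Y), ∃ χ : x Y' ⟶ x Y, p.IsHomLift g χ ∧
        ∀ a : StructuredArrow Y φ, χ ≫ μ Y a = μ Y' (StructuredArrow.mk (g ≫ a.hom)) := by
      intro Y' Y g
      have hh : ∀ a : StructuredArrow Y φ, ∃ χ : x Y' ⟶ x Y, p.IsHomLift g χ ∧
          χ ≫ μ Y a = μ Y' (StructuredArrow.mk (g ≫ a.hom)) := fun a => by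
        haveI := hμ Y a
        haveI : p.IsHomLift (g ≫ a.hom) (μ Y' (StructuredArrow.mk (g ≫ a.hom))) := hμ Y' (StructuredArrow.mk (g ≫ a.hom))
        have := isSC (p := p) a.hom (μ Y a)
        exact ⟨IsStronglyCartesian.map p a.hom (μ Y a) (g := g) (f' := g ≫ a.hom) rfl
          (μ Y' (StructuredArrow.mk (g ≫ a.hom))), inferInstance, IsStronglyCartesian.fac _ _ _ _ _⟩
      choose χ hχ hfac using hh
      obtain ⟨a₀⟩ := (hφ Y).1
      refine ⟨χ a₀, hχ a₀, fun a => ?_⟩
      have step : ∀ {a b : StructuredArrow Y φ}, (a ⟶ b) → ULift.up.{max u₁ u₂ u₃ v₁ v₂ v₃} (χ a) = ULift.up (χ b) := by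
        intro a b m
        haveI := hμ Y b
        haveI := hχ a
        haveI := hχ b
        refine congrArg ULift.up (ext₁ b.hom (μ Y b) g (χ a) (χ b) ?_)
        rw [hfac b, ← hnat Y m, ← Category.assoc, hfac a]
        exact hnat Y' (StructuredArrow.homMk m.right (by simp) :
          StructuredArrow.mk (g ≫ a.hom) ⟶ StructuredArrow.mk (g ≫ b.hom))
      rw [ULift.up.inj (eq_of_invariant (hφ Y) (fun a => ULift.up (χ a)) step a₀ a)]
      exact hfac a
    choose χ hχ hfac using @key
    let S₀ : D ⥤ F :=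
      { obj := x
        map := fun g => χ g
        map_id := fun Y => by
          obtain ⟨a⟩ := (hφ Y).1
          haveI := hμ Y a
          haveI := hχ (𝟙 Y)
          haveI : p.IsHomLift (𝟙 Y) (𝟙 (x Y)) := IsHomLift.id (hx Y)
          refine ext₁ a.hom (μ Y a) (𝟙 Y) (χ (𝟙 Y)) (𝟙 (x Y)) ?_
          rw [hfac]
          refine Eq.trans ?_ (Category.id_comp _).symm
          have h1 := hnat Y (StructuredArrow.homMk (𝟙 a.right) (by simp) : StructuredArrow.mk (𝟙 Y ≫ a.hom) ⟶ a)
          exact (Category.comp_id _).symm.trans ((congrArg (μ Y _ ≫ ·) (t.toFunctor.map_id _)).symm.trans h1)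
        map_comp := fun {Y'' Y' Y} g g' => by
          obtain ⟨a⟩ := (hφ Y).1
          haveI := hμ Y a
          haveI := hχ (g ≫ g')
          haveI := hχ g
          haveI := hχ g'
          refine ext₁ a.hom (μ Y a) (g ≫ g') (χ (g ≫ g')) (χ g ≫ χ g') ?_
          rw [hfac (g ≫ g') a, Category.assoc (χ g) (χ g'), hfac g' a, hfac g, Category.assoc]
          rfl }
    let S : FibCat.selfOver D ⥤ᵇ BasedCategory.ofFunctor p :=
      ⟨S₀, CategoryTheory.Functor.ext hx fun Y' Y g => by have := hχ g; exact IsHomLift.fac' p g (χ g)⟩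
    haveI : ∀ X, IsIso (μ (φ.obj X) (StructuredArrow.mk (𝟙 (φ.obj X)))) := fun X => by
      haveI : p.IsHomLift (𝟙 (φ.obj X)) (μ (φ.obj X) (StructuredArrow.mk (𝟙 (φ.obj X)))) := hμ (φ.obj X) (StructuredArrow.mk (𝟙 (φ.obj X)))
      exact isIso_of_lift (p := p) (𝟙 (φ.obj X)) _
    refine ⟨S, ⟨BasedNatIso.mkNatIso (NatIso.ofComponents (fun X => asIso (μ (φ.obj X) (StructuredArrow.mk (𝟙 _)))) ?_)
      (fun X => hμ (φ.obj X) (StructuredArrow.mk (𝟙 (φ.obj X))))⟩⟩
    intro X' X m
    show χ (φ.map m) ≫ μ _ (StructuredArrow.mk (𝟙 _)) = μ _ (StructuredArrow.mk (𝟙 _)) ≫ t.map m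
    rw [hfac]
    exact (hnat _ (StructuredArrow.homMk m (by simp) :
      StructuredArrow.mk (𝟙 (φ.obj X')) ⟶ StructuredArrow.mk (φ.map m ≫ 𝟙 (φ.obj X)))).symm

end Sections

end Groth.Agent.StkLib

namespace Groth.Agent.StkLib

section FibreAdj

variable {C : Type u₁} [Category.{v₁} C] {D : Type u₂} [Category.{v₂} D] (f : C ⥤ D) [f.IsFibered]

/-- A fibre mapped into the comma category. -/
abbrev fibreToArrow (Y : D) : f.Fiber Y ⥤ StructuredArrow Y f where
  obj b := StructuredArrow.mk (eqToHom b.2.symm)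
  map {b b'} m := StructuredArrow.homMk m.1 (by
    have := m.2
    show eqToHom b.2.symm ≫ f.map m.1 = eqToHom b'.2.symm
    rw [IsHomLift.fac' f (𝟙 Y) m.1]
    simp)
  map_id b := StructuredArrow.hom_ext _ _ rfl
  map_comp m m' := StructuredArrow.hom_ext _ _ rfl

lemma exists_rightAdjoint (Y : D) : ∃ r : StructuredArrow Y f ⥤ f.Fiber Y, Nonempty (fibreToArrow f Y ⊣ r) := by
  choose z l hl using fun a : StructuredArrow Y f => IsPreFibered.exists_isCartesian f (rfl : f.obj a.right = _) a.hom
  let Z : StructuredArrow Y f → f.Fiber Y := fun a =>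
    ⟨z a, haveI := (hl a).toIsHomLift; IsHomLift.domain_eq f a.hom (l a)⟩
  let e : ∀ (b : f.Fiber Y) (a : StructuredArrow Y f), ((fibreToArrow f Y).obj b ⟶ a) ≃ (b ⟶ Z a) := fun b a =>
    { toFun := fun k =>
        haveI := hl a
        haveI : f.IsHomLift a.hom k.right := IsHomLift.of_fac' f a.hom k.right b.2 rfl (by
          rw [← StructuredArrow.w k]
          simp)
        ⟨IsCartesian.map f a.hom (l a) k.right, inferInstanceAs (f.IsHomLift (𝟙 Y) (IsCartesian.map f a.hom (l a) k.right))⟩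
      invFun := fun m => StructuredArrow.homMk (m.1 ≫ l a) (by
        haveI := (hl a).toIsHomLift
        haveI := m.2
        show eqToHom b.2.symm ≫ f.map (m.1 ≫ l a) = a.hom
        rw [Functor.map_comp, IsHomLift.fac' f (𝟙 Y) m.1, IsHomLift.fac' f a.hom (l a)]
        simp)
      left_inv := fun k => StructuredArrow.hom_ext _ _ (by
        haveI := hl a
        haveI : f.IsHomLift a.hom k.right := IsHomLift.of_fac' f a.hom k.right b.2 rfl (by
          rw [← StructuredArrow.w k]
          simp)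
        exact IsCartesian.fac f a.hom (l a) k.right)
      right_inv := fun m => Subtype.ext (by
        haveI := hl a
        haveI := (hl a).toIsHomLift
        haveI := m.2
        haveI : f.IsHomLift a.hom (m.1 ≫ l a) := IsHomLift.comp_lift_id_left' f Y m.1 a.hom (l a)
        exact (IsCartesian.map_uniq f a.hom (l a) (m.1 ≫ l a) m.1 rfl).symm) }
  have he : ∀ b' b a (g : b' ⟶ b) (k : (fibreToArrow f Y).obj b ⟶ a), e b' a ((fibreToArrow f Y).map g ≫ k) = g ≫ e b a k := by
    intro b' b a g k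
    haveI := hl a
    apply (e b' a).symm.injective
    rw [Equiv.symm_apply_apply]
    refine StructuredArrow.hom_ext _ _ ?_
    have h1 : ((e b a k).1 ≫ l a) = k.right := congrArg (fun t : (fibreToArrow f Y).obj b ⟶ a => t.right) ((e b a).symm_apply_apply k)
    show g.1 ≫ k.right = (g.1 ≫ (e b a k).1) ≫ l a
    rw [Category.assoc, h1]
  exact ⟨_, ⟨Adjunction.adjunctionOfEquivRight e he⟩⟩

theorem hasContractibleNerve_structuredArrow (Y : D)
    (h : W4c2modmodulilect.HasContractibleNerve.{w, w₂} (f.Fiber Y)) :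
    W4c2modmodulilect.HasContractibleNerve.{w, w₂} (StructuredArrow Y f) := by
  obtain ⟨r, ⟨adj⟩⟩ := exists_rightAdjoint f Y
  exact hasContractibleNerve_of_adjunction h adj

end FibreAdj

end Groth.Agent.StkLib
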